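import Mathlib
import Cfsg.Agent.Lib.Char.TransLinear.Arith

/-!
# Arithmetic
-/

set_option autoImplicit false
set_option maxRecDepth 100000
set_option synthInstance.maxSize 4096
set_option synthInstance.maxHeartbeats 400000

namespace CfsgLib.Coprime.ClassMod

open CfsgLib.Char

theorem big_L : ∀ L, 6 ≤ L → 2 * (L + 1) * (2 * L + 1) + 3 ≤ 3 * 2 ^ L := by
  intro L hL
  induction L, hL using Nat.le_induction with
  | base => norm_num
  | succ L hL ih =>
    rw [pow_succ]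
    nlinarith

theorem big_pow {q : ℕ} (hq : 64 ≤ q) : q ^ (2 * Nat.log 2 q + 1) ≤ 3 ^ (q - 1) := by
  set L := Nat.log 2 q with hL
  have h6 : 6 ≤ L := Nat.le_log_of_pow_le (by norm_num) (by simpa using hq)
  have h1 : q ≤ 2 ^ (L + 1) := (Nat.lt_pow_succ_log_self (by norm_num) q).le
  have h2 : 2 ^ L ≤ q := Nat.pow_log_le_self 2 (by omega)
  have h3 : 2 * ((L + 1) * (2 * L + 1)) ≤ 3 * (q - 1) := by
    have := big_L L h6
    have h4 : 3 * 2 ^ L ≤ 3 * q := Nat.mul_le_mul_left 3 h2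
    rw [mul_assoc] at this
    omega
  refine (Nat.pow_le_pow_left h1 _).trans ?_
  rw [← pow_mul]
  refine (Nat.pow_le_pow_iff_left (show (2 : ℕ) ≠ 0 by norm_num)).1 ?_
  rw [← pow_mul, ← pow_mul, mul_comm _ 2, mul_comm (q - 1) 2]
  calc (2 : ℕ) ^ (2 * ((L + 1) * (2 * L + 1))) ≤ 2 ^ (3 * (q - 1)) := Nat.pow_le_pow_right (by norm_num) h3
    _ = 8 ^ (q - 1) := by rw [pow_mul]; norm_num
    _ ≤ 9 ^ (q - 1) := Nat.pow_le_pow_left (by norm_num) _
    _ = 3 ^ (2 * (q - 1)) := by rw [pow_mul]; norm_num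

/-- the exceptional pairs -/
def excPairs : List (ℕ × ℕ) := [(2, 1), (2, 2), (2, 3), (2, 4), (2, 5), (3, 1), (3, 2), (5, 1)]

theorem pow_table : ∀ p ∈ smallPrimes, p < 64 → ∀ m < 6, 1 ≤ m → p ^ m < 64 →
    (p, m) ∈ excPairs ∨ p ^ (m * (2 * m + 1)) ≤ 3 ^ (p ^ m - 1) := by decide +kernel

theorem exp_lt {p m : ℕ} (hp : p.Prime) (h : p ^ m < 64) : m < 6 := by
  by_contra hlt
  have h1 : 2 ^ 6 ≤ p ^ m := (Nat.pow_le_pow_left hp.two_le 6).trans (Nat.pow_le_pow_right hp.pos (by omega))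
  omega

theorem symp_arith {p m : ℕ} (hp : p.Prime) (hm : 1 ≤ m) :
    (p, m) ∈ excPairs ∨ p ^ (m * (2 * m + 1)) ≤ 3 ^ (p ^ m - 1) := by
  rcases lt_or_ge (p ^ m) 64 with h | h
  · have h2 : p < 64 := (Nat.le_self_pow (by omega) p).trans_lt h
    exact pow_table p ((prime_iff_mem_smallPrimes (by omega)).1 hp) h2 m (exp_lt hp h) hm h
  · refine Or.inr ?_
    rw [pow_mul]
    refine le_trans ?_ (big_pow h)
    refine Nat.pow_le_pow_right (Nat.pow_pos hp.pos) ?_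
    have : m ≤ Nat.log 2 (p ^ m) := Nat.le_log_of_pow_le (by norm_num) (Nat.pow_le_pow_left hp.two_le m)
    omega

theorem perm_table : ∀ p ∈ smallPrimes, p < 64 → ∀ d < 6, 1 ≤ d → p ^ d < 64 →
    p ^ d * glCard d p ≤ 3 ^ (p ^ d - 1) := by decide +kernel

theorem perm_arith {p d : ℕ} (hp : p.Prime) (hd : 1 ≤ d) : p ^ d * glCard d p ≤ 3 ^ (p ^ d - 1) := by
  rcases lt_or_ge (p ^ d) 64 with h | h
  · have h2 : p < 64 := (Nat.le_self_pow (by omega) p).trans_lt h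
    exact perm_table p ((prime_iff_mem_smallPrimes (by omega)).1 hp) h2 d (exp_lt hp h) hd h
  · refine le_trans (Nat.mul_le_mul_left _ (glCard_le d p)) (le_trans ?_ (big_pow h))
    rw [← pow_add, ← pow_mul]
    refine Nat.pow_le_pow_right hp.pos ?_
    have : d ≤ Nat.log 2 (p ^ d) := Nat.le_log_of_pow_le (by norm_num) (Nat.pow_le_pow_left hp.two_le d)
    nlinarith

end CfsgLib.Coprime.ClassMod
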