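import Mathlib
import Cfsg.Agent.S4201

/-!
# Class numbers of all subgroups of a group
-/

set_option autoImplicit false
set_option linter.style.haveILetI false

namespace CfsgLib.Coprime.ClassMod

/-- every subgroup has at most `c` conjugacy classes -/
def KC (X : Type*) [Group X] (c : ℕ) : Prop := ∀ H : Subgroup X, Nat.card (ConjClasses H) ≤ c

variable {X Y : Type*} [Group X] [Group Y]

theorem card_conjClasses_le_of_surjective [Finite X] (f : X →* Y) (hf : Function.Surjective f) :
    Nat.card (ConjClasses Y) ≤ Nat.card (ConjClasses X) :=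
  haveI : Finite (ConjClasses X) := Finite.of_surjective ConjClasses.mk ConjClasses.mk_surjective
  Nat.card_le_card_of_surjective (ConjClasses.map f) (ConjClasses.map_surjective hf)

theorem card_conjClasses_le_card [Finite X] : Nat.card (ConjClasses X) ≤ Nat.card X :=
  Nat.card_le_card_of_surjective ConjClasses.mk ConjClasses.mk_surjective

theorem card_conjClasses_le_top [Finite X] :
    Nat.card (ConjClasses X) ≤ Nat.card (ConjClasses (⊤ : Subgroup X)) :=
  card_conjClasses_le_of_surjective (⊤ : Subgroup X).subtype fun x => ⟨⟨x, Subgroup.mem_top x⟩, rfl⟩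

theorem KC.mono {c d : ℕ} (h : KC X c) (hd : c ≤ d) : KC X d := fun H => (h H).trans hd

theorem KC.of_card [Finite X] {c : ℕ} (h : Nat.card X ≤ c) : KC X c := fun H =>
  card_conjClasses_le_card.trans ((Subgroup.card_le_card_group H).trans h)

theorem KC.of_injective [Finite X] {c : ℕ} (f : X →* Y) (hf : Function.Injective f) (h : KC Y c) : KC X c := by
  intro H
  haveI : Finite (H.map f) := Finite.of_equiv H (H.equivMapOfInjective f hf).toEquiv
  exact (card_conjClasses_le_of_surjective (H.equivMapOfInjective f hf).symm.toMonoidHom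
    (H.equivMapOfInjective f hf).symm.surjective).trans (h (H.map f))

theorem KC.of_surjective [Finite X] {c : ℕ} (f : X →* Y) (hf : Function.Surjective f) (h : KC X c) : KC Y c := by
  intro H
  refine (card_conjClasses_le_of_surjective (f.subgroupComap H) ?_).trans (h (H.comap f))
  rintro ⟨y, hy⟩
  obtain ⟨x, rfl⟩ := hf y
  exact ⟨⟨x, hy⟩, rfl⟩

theorem KC.of_ext [Finite X] {a b : ℕ} (N : Subgroup X) [N.Normal] (hN : KC N a) (hQ : KC (X ⧸ N) b) :
    KC X (a * b) := by
  intro H
  refine (Cfsg.Agent.S4201.result (N.subgroupOf H)).trans (Nat.mul_le_mul ?_ ?_)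
  · let f : N.subgroupOf H →* N := (H.subtype.comp (N.subgroupOf H).subtype).codRestrict N fun x => x.2
    refine le_trans ?_ ((KC.of_injective f ?_ hN) ⊤)
    · exact card_conjClasses_le_top
    · intro x y h
      exact Subtype.ext (Subtype.ext (congrArg Subtype.val h :))
  · let f : H ⧸ N.subgroupOf H →* X ⧸ N := QuotientGroup.map _ N H.subtype le_rfl
    refine le_trans ?_ ((KC.of_injective f ?_ hQ) ⊤)
    · exact card_conjClasses_le_top
    · refine (injective_iff_map_eq_one f).2 fun q hq => ?_
      induction q using QuotientGroup.induction_on with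
      | H x => exact (QuotientGroup.eq_one_iff x).2 ((QuotientGroup.eq_one_iff (x : X)).1 hq)

theorem KC.self [Finite X] {c : ℕ} (h : KC X c) : Nat.card (ConjClasses X) ≤ c :=
  card_conjClasses_le_top.trans (h ⊤)

/-- the bound along a homomorphism -/
theorem KC.of_hom [Finite X] [Finite Y] {a b : ℕ} (f : X →* Y) (hker : KC f.ker a) (hY : KC Y b) :
    KC X (a * b) :=
  KC.of_ext f.ker hker (KC.of_injective (QuotientGroup.kerLift f) (QuotientGroup.kerLift_injective f) hY)

theorem KC.prod [Finite X] [Finite Y] {a b : ℕ} (hX : KC X a) (hY : KC Y b) : KC (X × Y) (a * b) := by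
  refine KC.of_hom (MonoidHom.snd X Y) ?_ hY
  refine KC.of_injective ((MonoidHom.fst X Y).comp (MonoidHom.snd X Y).ker.subtype) ?_ hX
  intro x y h
  exact Subtype.ext (Prod.ext h ((MonoidHom.mem_ker.1 x.2).trans (MonoidHom.mem_ker.1 y.2).symm))

theorem KC.pi : ∀ {ι : Type*} [Fintype ι] {Z : ι → Type*} [∀ i, Group (Z i)] [∀ i, Finite (Z i)] (c : ι → ℕ),
    (∀ i, KC (Z i) (c i)) → KC (∀ i, Z i) (∏ i, c i) := by
  intro ι _ Z _ _ c hc
  classical
  suffices ∀ s : Finset ι, KC (∀ i : s, Z i) (∏ i ∈ s, c i) by
    refine KC.of_injective (Pi.monoidHom fun i : (Finset.univ : Finset ι) => Pi.evalMonoidHom Z i) ?_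
      (this Finset.univ)
    intro x y h
    exact funext fun i => congrFun h ⟨i, Finset.mem_univ i⟩
  intro s
  induction s using Finset.induction_on with
  | empty => exact KC.of_card (by simp [Nat.card_of_subsingleton])
  | @insert a s ha ih =>
    rw [Finset.prod_insert ha]
    let f : (∀ i : (insert a s : Finset ι), Z i) →* Z a × (∀ i : s, Z i) :=
      (Pi.evalMonoidHom (fun i : (insert a s : Finset ι) => Z i) ⟨a, Finset.mem_insert_self a s⟩).prod
        (Pi.monoidHom fun i : s => Pi.evalMonoidHom (fun j : (insert a s : Finset ι) => Z j)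
          ⟨(i : ι), Finset.mem_insert_of_mem i.2⟩)
    refine KC.of_injective f ?_ ((hc a).prod ih)
    intro x y h
    refine funext fun ⟨i, hi⟩ => ?_
    rcases Finset.mem_insert.1 hi with h1 | h1
    · subst h1
      exact congrArg Prod.fst h
    · exact congrFun (congrArg Prod.snd h) ⟨i, h1⟩

/-- bound from the centralizers of the non-central elements -/
theorem conjClasses_mul_card_le (H : Type*) [Group H] [Finite H] {c : ℕ}
    (hc : ∀ x : H, x ∉ Subgroup.center H → Nat.card (Subgroup.centralizer ({x} : Set H)) ≤ c) :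
    Nat.card (ConjClasses H) * Nat.card H ≤
      Nat.card (Subgroup.center H) * Nat.card H + (Nat.card H - Nat.card (Subgroup.center H)) * c := by
  classical
  haveI := Fintype.ofFinite H
  rw [← card_comm_eq_card_conjClasses_mul_card,
    Nat.card_congr (Equiv.subtypeProdEquivSigmaSubtype fun a b : H => Commute a b), Nat.card_sigma,
    ← Finset.sum_filter_add_sum_filter_not Finset.univ (fun x : H => x ∈ Subgroup.center H)]
  refine Nat.add_le_add ?_ ?_
  · refine (Finset.sum_le_card_nsmul _ _ (Nat.card H) fun x _ => Finite.card_subtype_le _).trans (le_of_eq ?_)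
    rw [smul_eq_mul]
    congr 1
    rw [Nat.card_eq_fintype_card, ← Fintype.card_subtype]
  · refine (Finset.sum_le_card_nsmul _ _ c fun x hx => ?_).trans (le_of_eq ?_)
    · refine le_trans (le_of_eq (Nat.card_congr (Equiv.subtypeEquivRight fun y => ?_))) (hc x (Finset.mem_filter.1 hx).2)
      rw [Subgroup.mem_centralizer_singleton_iff]
      exact ⟨fun h => h.eq.symm, fun h => Eq.symm h⟩
    · rw [smul_eq_mul]
      congr 1
      have h1 := Finset.card_filter_add_card_filter_not (s := (Finset.univ : Finset H))
        (fun x : H => x ∈ Subgroup.center H)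
      rw [Finset.card_univ, ← Fintype.card_subtype, ← Nat.card_eq_fintype_card, ← Nat.card_eq_fintype_card] at h1
      omega

theorem five_eighths (H : Type*) [Group H] [Finite H] (hna : ¬ ∀ a b : H, a * b = b * a) :
    8 * Nat.card (ConjClasses H) ≤ 5 * Nat.card H := by
  classical
  have hz : 4 * Nat.card (Subgroup.center H) ≤ Nat.card H := by
    rw [Subgroup.card_eq_card_quotient_mul_card_subgroup (Subgroup.center H)]
    refine Nat.mul_le_mul_right _ ?_
    by_contra hlt
    have hcyc : IsCyclic (H ⧸ Subgroup.center H) := by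
      have h0 : 0 < Nat.card (H ⧸ Subgroup.center H) := Nat.card_pos
      have hcases : Nat.card (H ⧸ Subgroup.center H) = 1 ∨ Nat.card (H ⧸ Subgroup.center H) = 2 ∨
        Nat.card (H ⧸ Subgroup.center H) = 3 := by omega
      rcases hcases with h | h | h
      · haveI := (Nat.card_eq_one_iff_unique.1 h).1
        exact isCyclic_of_subsingleton
      · haveI : Fact (Nat.Prime 2) := ⟨Nat.prime_two⟩
        exact isCyclic_of_prime_card h
      · haveI : Fact (Nat.Prime 3) := ⟨Nat.prime_three⟩
        exact isCyclic_of_prime_card h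
    haveI := hcyc
    exact hna (commutative_of_cyclic_center_quotient (QuotientGroup.mk' (Subgroup.center H))
      (QuotientGroup.ker_mk' _).le)
  have h := conjClasses_mul_card_le H (c := Nat.card H / 2) (fun x hx => by
    rw [Nat.le_div_iff_mul_le (by norm_num : 0 < 2), mul_comm]
    set C := Subgroup.centralizer ({x} : Set H)
    rw [← C.index_mul_card]
    refine Nat.mul_le_mul_right _ ?_
    by_contra hlt
    have h0 : C.index ≠ 0 := Subgroup.index_ne_zero_of_finite
    have htop : C = ⊤ := Subgroup.index_eq_one.1 (by omega)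
    exact hx (Subgroup.mem_center_iff.2 fun g => (Subgroup.mem_centralizer_singleton_iff.1
      (htop ▸ Subgroup.mem_top g : g ∈ C))))
  have h0 : 0 < Nat.card H := Nat.card_pos
  have h2 : 2 * (Nat.card H / 2) ≤ Nat.card H := Nat.mul_div_le _ _
  refine Nat.le_of_mul_le_mul_right ?_ h0
  have hzh : Nat.card (Subgroup.center H) ≤ Nat.card H := Subgroup.card_le_card_group _
  obtain ⟨d, hd⟩ := Nat.exists_eq_add_of_le hzh
  rw [hd, Nat.add_sub_cancel_left] at h
  have h3 : 2 * (d * (Nat.card H / 2)) ≤ d * Nat.card H := by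
    calc 2 * (d * (Nat.card H / 2)) = d * (2 * (Nat.card H / 2)) := by ring
      _ ≤ d * Nat.card H := Nat.mul_le_mul_left _ h2
  rw [hd] at h2 h0 hz ⊢
  generalize Nat.card (ConjClasses H) = k at h ⊢
  generalize Nat.card (Subgroup.center H) = z at h h2 h0 hz ⊢
  generalize (z + d) / 2 = e at h h2
  nlinarith [Nat.mul_le_mul_left d h2, Nat.mul_le_mul_right (z + d) hz]

end CfsgLib.Coprime.ClassMod
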