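import Cfsg.Agent.Lib.Coprime.ClassMod.Perm
import Cfsg.Agent.Lib.Coprime.ClassMod.Basic
import Cfsg.Agent.Lib.Coprime.Fitting

/-!
# A non-scalar abelian normal subgroup
-/

set_option autoImplicit false
set_option linter.style.haveILetI false
set_option linter.unusedSectionVars false

namespace CfsgLib.Coprime.ClassMod

open Module

/-- scalar elements of a complex linear group -/
def IsScalar {G V : Type*} [Group G] [AddCommGroup V] [Module ℂ V] (ρ : G →* (V ≃ₗ[ℂ] V)) (g : G) : Prop :=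
  ∃ c : ℂ, ∀ v, ρ g v = c • v

/-- the bound in dimension `r` -/
def LinBound (r : ℕ) : Prop :=
  ∀ (G V : Type) [Group G] [Finite G] [AddCommGroup V] [Module ℂ V] [FiniteDimensional ℂ V]
    (ρ : G →* (V ≃ₗ[ℂ] V)), Function.Injective ρ → Group.IsSolvable G → finrank ℂ V = r →
    ∀ [(Cfsg.fittingSubgroup G).Normal], KC (G ⧸ Cfsg.fittingSubgroup G) (3 ^ (r - 1))

section embed

variable {G : Type} [Group G] [Finite G] {ι : Type} [Fintype ι] {H : ι → Type} [∀ i, Group (H i)] [∀ i, Finite (H i)]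

/-- a group embedded in a product with surjective projections -/
theorem kc_of_embed (f : ∀ i, G →* H i) (hf : ∀ i, Function.Surjective (f i))
    (hinj : ∀ g, (∀ i, f i g = 1) → g = 1) (c : ι → ℕ) [hG : (Cfsg.fittingSubgroup G).Normal]
    [∀ i, (Cfsg.fittingSubgroup (H i)).Normal]
    (hc : ∀ i, KC (H i ⧸ Cfsg.fittingSubgroup (H i)) (c i)) :
    KC (G ⧸ Cfsg.fittingSubgroup G) (∏ i, c i) := by
  let Ψ : G →* ∀ i, H i ⧸ Cfsg.fittingSubgroup (H i) :=
    Pi.monoidHom fun i => (QuotientGroup.mk' (Cfsg.fittingSubgroup (H i))).comp (f i)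
  have hmem : ∀ g, g ∈ Ψ.ker → ∀ i, f i g ∈ Cfsg.fittingSubgroup (H i) := fun g hg i =>
    (QuotientGroup.eq_one_iff _).1 (congrFun (MonoidHom.mem_ker.1 hg) i)
  have hnil : Group.IsNilpotent Ψ.ker := by
    haveI : ∀ i, Group.IsNilpotent (Cfsg.fittingSubgroup (H i)) := fun i => CfsgLib.Coprime.fitting_isNilpotent
    let Φ : Ψ.ker →* ∀ i, Cfsg.fittingSubgroup (H i) :=
      Pi.monoidHom fun i => ((f i).comp Ψ.ker.subtype).codRestrict _ fun g => hmem g g.2 i
    have hΦ : Function.Injective Φ := (injective_iff_map_eq_one Φ).2 fun g hg =>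
      Subtype.ext (hinj _ fun i => congrArg Subtype.val (congrFun hg i))
    exact Group.nilpotent_of_mulEquiv (MonoidHom.ofInjective hΦ).symm
  have hle : Ψ.ker ≤ Cfsg.fittingSubgroup G := CfsgLib.Coprime.le_fitting hnil
  refine KC.of_surjective (QuotientGroup.map Ψ.ker (Cfsg.fittingSubgroup G) (MonoidHom.id G) hle) ?_
    (KC.of_injective (QuotientGroup.kerLift Ψ) (QuotientGroup.kerLift_injective Ψ) (KC.pi c hc))
  intro q
  induction q using QuotientGroup.induction_on with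
  | H x => exact ⟨QuotientGroup.mk x, rfl⟩

theorem kc_of_normal (N : Subgroup G) [N.Normal] [(Cfsg.fittingSubgroup N).Normal]
    [hG : (Cfsg.fittingSubgroup G).Normal] {a b : ℕ} (ha : KC (N ⧸ Cfsg.fittingSubgroup N) a)
    (hb : KC (G ⧸ N) b) : KC (G ⧸ Cfsg.fittingSubgroup G) (a * b) := by
  set M := (Cfsg.fittingSubgroup N).map N.subtype with hM
  haveI : (Cfsg.fittingSubgroup N).Characteristic := CfsgLib.Coprime.fitting_characteristic
  haveI : M.Normal := hM ▸ inferInstance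
  have hMN : M ≤ N := Subgroup.map_subtype_le _
  have hMF : M ≤ Cfsg.fittingSubgroup G := by
    refine CfsgLib.Coprime.le_fitting ?_
    haveI : Group.IsNilpotent (Cfsg.fittingSubgroup N) := CfsgLib.Coprime.fitting_isNilpotent
    exact Group.nilpotent_of_mulEquiv ((Cfsg.fittingSubgroup N).equivMapOfInjective N.subtype N.subtype_injective)
  have h1 : KC (G ⧸ M) (a * b) := by
    let π : G ⧸ M →* G ⧸ N := QuotientGroup.map M N (MonoidHom.id G) hMN
    refine KC.of_hom π ?_ hb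
    let u : N ⧸ Cfsg.fittingSubgroup N →* π.ker := QuotientGroup.lift _
      (((QuotientGroup.mk' M).comp N.subtype).codRestrict π.ker fun x =>
        MonoidHom.mem_ker.2 ((QuotientGroup.eq_one_iff _).2 x.2))
      fun x hx => MonoidHom.mem_ker.2 (Subtype.ext ((QuotientGroup.eq_one_iff _).2 (Subgroup.mem_map_of_mem _ hx)))
    refine KC.of_surjective u ?_ ha
    rintro ⟨q, hq⟩
    induction q using QuotientGroup.induction_on with
    | H x =>
      exact ⟨QuotientGroup.mk (⟨x, (QuotientGroup.eq_one_iff (N := N) x).1 (MonoidHom.mem_ker.1 hq)⟩ : N), rfl⟩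
  refine KC.of_surjective (QuotientGroup.map M (Cfsg.fittingSubgroup G) (MonoidHom.id G) hMF) ?_ h1
  intro q
  induction q using QuotientGroup.induction_on with
  | H x => exact ⟨QuotientGroup.mk x, rfl⟩

end embed

variable {G V : Type} [Group G] [Finite G] [AddCommGroup V] [Module ℂ V] [FiniteDimensional ℂ V]

/-- restriction to an invariant subspace -/
def restr (ρ : G →* (V ≃ₗ[ℂ] V)) (W : Submodule ℂ V) (h : ∀ g, ∀ w ∈ W, ρ g w ∈ W) : G →* (W ≃ₗ[ℂ] W) where
  toFun g :=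
    { toFun := fun w => ⟨ρ g w, h g w w.2⟩
      map_add' := fun a b => Subtype.ext (map_add (ρ g) (a : V) (b : V))
      map_smul' := fun c a => Subtype.ext (map_smul (ρ g) c (a : V))
      invFun := fun w => ⟨ρ g⁻¹ w, h g⁻¹ w w.2⟩
      left_inv := fun w => Subtype.ext (by
        show ρ g⁻¹ (ρ g w) = w
        rw [← LinearEquiv.mul_apply, ← map_mul, inv_mul_cancel, map_one]; rfl)
      right_inv := fun w => Subtype.ext (by
        show ρ g (ρ g⁻¹ w) = w
        rw [← LinearEquiv.mul_apply, ← map_mul, mul_inv_cancel, map_one]; rfl) }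
  map_one' := LinearEquiv.ext fun w => Subtype.ext (show ρ 1 (w : V) = w by rw [map_one]; rfl)
  map_mul' g g' := LinearEquiv.ext fun w => Subtype.ext (show ρ (g * g') (w : V) = ρ g (ρ g' w) by rw [map_mul]; rfl)

theorem kc_of_nonscalar (ρ : G →* (V ≃ₗ[ℂ] V)) (hρ : Function.Injective ρ) (hs : Group.IsSolvable G)
    (ih : ∀ m < finrank ℂ V, LinBound m) [(Cfsg.fittingSubgroup G).Normal] (A : Subgroup G) [A.Normal]
    (hA : ∀ a ∈ A, ∀ b ∈ A, a * b = b * a) (hns : ∃ a ∈ A, ¬ IsScalar ρ a) :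
    KC (G ⧸ Cfsg.fittingSubgroup G) (3 ^ (finrank ℂ V - 1)) := by
  classical
  haveI := hs
  letI : CommGroup A := { (inferInstance : Group A) with
    mul_comm := fun x y => Subtype.ext (hA _ x.2 _ y.2) }
  haveI := Fintype.ofFinite A
  haveI : HasEnoughRootsOfUnity ℂ (Monoid.exponent A) := by
    haveI : NeZero (Monoid.exponent A) := ⟨Monoid.exponent_ne_zero_of_finite⟩
    infer_instance
  let X := A →* ℂˣ
  haveI : Finite X := Finite.of_equiv A (CommGroup.monoidHom_mulEquiv_of_hasEnoughRootsOfUnity A ℂ).some.symm.toEquiv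
  haveI := Fintype.ofFinite X
  have hXcard : (Fintype.card X : ℂ) = (Fintype.card A : ℂ) := by
    rw [← Nat.card_eq_fintype_card, ← Nat.card_eq_fintype_card, CommGroup.card_monoidHom_of_hasEnoughRootsOfUnity]
  have horth : ∀ a : A, a ≠ 1 → ∑ φ : X, ((φ a : ℂˣ) : ℂ) = 0 := by
    intro a ha
    obtain ⟨φ, hφ⟩ := CommGroup.exists_apply_ne_one_of_hasEnoughRootsOfUnity A ℂ ha
    refine sum_hom_units_eq_zero (G := X)
      ({ toFun := fun φ => ((φ a : ℂˣ) : ℂ), map_one' := rfl, map_mul' := fun _ _ => Units.val_mul _ _ } : X →* ℂ)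
      fun h => hφ (Units.ext (DFunLike.congr_fun h φ))
  let τ : G → Module.End ℂ V := fun g => (ρ g).toLinearMap
  have hτ : ∀ g h, τ (g * h) = τ g * τ h := fun g h => by
    show (ρ (g * h)).toLinearMap = _
    rw [map_mul]; rfl
  have hτ1 : τ 1 = 1 := by show (ρ 1).toLinearMap = _; rw [map_one]; rfl
  let e : X → Module.End ℂ V := fun φ =>
    (Fintype.card A : ℂ)⁻¹ • ∑ a : A, ((φ a⁻¹ : ℂˣ) : ℂ) • τ a
  have hcard0 : (Fintype.card A : ℂ) ≠ 0 := Nat.cast_ne_zero.2 Fintype.card_ne_zero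
  have hsum1 : ∑ φ, e φ = 1 := by
    show ∑ φ : X, (Fintype.card A : ℂ)⁻¹ • ∑ a : A, ((φ a⁻¹ : ℂˣ) : ℂ) • τ a = 1
    rw [← Finset.smul_sum, Finset.sum_comm, Finset.sum_eq_single (1 : A)]
    · simp only [inv_one, map_one, Units.val_one, one_smul, Finset.sum_const, Finset.card_univ]
      rw [OneMemClass.coe_one, hτ1, ← Nat.cast_smul_eq_nsmul ℂ, hXcard, smul_smul, inv_mul_cancel₀ hcard0, one_smul]
    · intro a _ ha
      rw [← Finset.sum_smul, horth a⁻¹ (inv_ne_one.2 ha), zero_smul]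
    · exact fun h => absurd (Finset.mem_univ _) h
  have hact : ∀ (b : A) φ, τ b * e φ = ((φ b : ℂˣ) : ℂ) • e φ := by
    intro b φ
    show τ b * ((Fintype.card A : ℂ)⁻¹ • ∑ a : A, ((φ a⁻¹ : ℂˣ) : ℂ) • τ a) =
      ((φ b : ℂˣ) : ℂ) • ((Fintype.card A : ℂ)⁻¹ • ∑ a : A, ((φ a⁻¹ : ℂˣ) : ℂ) • τ a)
    rw [mul_smul_comm, smul_comm]
    congr 1
    rw [Finset.mul_sum, Finset.smul_sum]
    refine Fintype.sum_equiv (Equiv.mulLeft b) _ _ fun a => ?_
    rw [mul_smul_comm, smul_smul, ← hτ]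
    congr 1
    · rw [← Units.val_mul, ← map_mul]
      congr 2
      simp [mul_comm]
  have hnorm : ∀ (g : G) (a : A), g⁻¹ * a * g ∈ A := fun g a => by
    simpa using Subgroup.Normal.conj_mem inferInstance (a : G) a.2 g⁻¹
  have hW : ∀ (φ : X) (v : V), v ∈ LinearMap.range (e φ) → ∀ b : A, ρ b v = ((φ b : ℂˣ) : ℂ) • v := by
    rintro φ _ ⟨u, rfl⟩ b
    exact LinearMap.congr_fun (hact b φ) u
  have hsep : ∀ φ ψ : X, ∀ v : V, v ∈ LinearMap.range (e φ) → v ≠ 0 → e ψ v = if φ = ψ then v else 0 := by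
    intro φ ψ v hv hv0
    show ((Fintype.card A : ℂ)⁻¹ • ∑ a : A, ((ψ a⁻¹ : ℂˣ) : ℂ) • τ a) v = _
    rw [LinearMap.smul_apply, LinearMap.sum_apply]
    have hterm : ∀ a : A, (((ψ a⁻¹ : ℂˣ) : ℂ) • τ a) v = (((φ * ψ⁻¹) a : ℂˣ) : ℂ) • v := fun a => by
      rw [LinearMap.smul_apply]
      show _ • ρ a v = _
      rw [hW φ v hv, smul_smul]
      congr 1
      rw [show (φ * ψ⁻¹) a = φ a * (ψ a)⁻¹ from rfl, map_inv, Units.val_mul, mul_comm]
    rw [Finset.sum_congr rfl fun a _ => hterm a, ← Finset.sum_smul, smul_smul]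
    by_cases h : φ = ψ
    · subst h
      rw [if_pos rfl]
      have h1 : ∀ a : A, (((φ * φ⁻¹) a : ℂˣ) : ℂ) = 1 := fun a => by
        rw [show (φ * φ⁻¹) a = φ a * (φ a)⁻¹ from rfl, mul_inv_cancel, Units.val_one]
      rw [Finset.sum_congr rfl fun a _ => h1 a, Finset.sum_const, Finset.card_univ, nsmul_one,
        inv_mul_cancel₀ hcard0, one_smul]
    · rw [if_neg h, sum_hom_units_eq_zero (G := A)
        ((Units.coeHom ℂ).comp (φ * ψ⁻¹)) (fun hh => h (mul_inv_eq_one.1 (MonoidHom.ext fun a =>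
          Units.ext (DFunLike.congr_fun hh a)))) |> fun hz => (show ∑ a : A, (((φ * ψ⁻¹) a : ℂˣ) : ℂ) = 0 from hz),
        mul_zero, zero_smul]
  have hsep' : ∀ φ ψ : X, ∀ v : V, v ∈ LinearMap.range (e φ) → e ψ v = if φ = ψ then v else 0 := by
    intro φ ψ v hv
    rcases eq_or_ne v 0 with rfl | hv0
    · simp
    · exact hsep φ ψ v hv hv0
  -- the index set and the action
  let I := {φ : X // e φ ≠ 0}
  let cjA : G → A →* A := fun g =>
    { toFun := fun a => ⟨g⁻¹ * a * g, hnorm g a⟩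
      map_one' := Subtype.ext (by simp)
      map_mul' := fun a b => Subtype.ext (by simp [mul_assoc]) }
  have hcje : ∀ (g : G) (φ : X), τ g * e φ = e (φ.comp (cjA g)) * τ g := by
    intro g φ
    show τ g * ((Fintype.card A : ℂ)⁻¹ • ∑ a : A, ((φ a⁻¹ : ℂˣ) : ℂ) • τ a) =
      ((Fintype.card A : ℂ)⁻¹ • ∑ a : A, ((φ (cjA g a⁻¹) : ℂˣ) : ℂ) • τ a) * τ g
    rw [mul_smul_comm, smul_mul_assoc]
    congr 1
    rw [Finset.mul_sum, Finset.sum_mul]
    let E : A ≃ A :=
      { toFun := fun a => ⟨g * a * g⁻¹, Subgroup.Normal.conj_mem inferInstance _ a.2 g⟩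
        invFun := fun a => ⟨g⁻¹ * a * g, hnorm g a⟩
        left_inv := fun a => Subtype.ext (by simp [mul_assoc])
        right_inv := fun a => Subtype.ext (by simp [mul_assoc]) }
    refine Fintype.sum_equiv E _ _ fun a => ?_
    rw [mul_smul_comm, smul_mul_assoc, ← hτ, ← hτ]
    congr 1
    · congr 2
      exact Subtype.ext (by simp [E, cjA, mul_assoc])
    · congr 1
      simp [E, mul_assoc]
  have hne : ∀ (g : G) (φ : X), e φ ≠ 0 → e (φ.comp (cjA g)) ≠ 0 := fun g φ h h' => h (by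
    have h1 := hcje g φ
    rw [h', zero_mul] at h1
    have h2 := congrArg (fun T => τ g⁻¹ * T) h1
    simp only [mul_zero, ← mul_assoc, ← hτ, inv_mul_cancel, hτ1, one_mul] at h2
    exact h2)
  letI : MulAction G I :=
    { smul := fun g φ => ⟨φ.1.comp (cjA g), hne g φ.1 φ.2⟩
      one_smul := fun φ => Subtype.ext (MonoidHom.ext fun a => congrArg φ.1 (Subtype.ext (by simp [cjA])))
      mul_smul := fun g h φ => Subtype.ext (MonoidHom.ext fun a => congrArg φ.1 (Subtype.ext (by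
        simp [cjA, mul_assoc]))) }
  set σ := MulAction.toPermHom G I with hσ
  let W : I → Submodule ℂ V := fun φ => LinearMap.range (e φ.1)
  have hdec : ∀ v : V, ∑ φ : I, e φ.1 v = v := by
    intro v
    have h0 : ∑ φ : X, e φ v = v := by rw [← LinearMap.sum_apply, hsum1]; rfl
    refine Eq.trans ?_ h0
    rw [← Finset.sum_filter_of_ne (p := fun φ : X => e φ ≠ 0) (s := Finset.univ) (f := fun φ => e φ v)
      fun φ _ h h' => h (by rw [h']; rfl)]
    exact (Finset.sum_subtype (p := fun φ : X => e φ ≠ 0) _ (fun φ => by simp only [Finset.mem_filter, Finset.mem_univ, true_and]) (fun φ => e φ v)).symm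
  let Φ : V ≃ₗ[ℂ] (∀ φ : I, W φ) :=
    { toFun := fun v φ => ⟨e φ.1 v, ⟨v, rfl⟩⟩
      map_add' := fun a b => funext fun φ => Subtype.ext (map_add _ _ _)
      map_smul' := fun c a => funext fun φ => Subtype.ext (map_smul _ _ _)
      invFun := fun w => ∑ φ, (w φ : V)
      left_inv := hdec
      right_inv := fun w => funext fun φ => Subtype.ext (by
        show e φ.1 (∑ ψ, (w ψ : V)) = w φ
        rw [map_sum, Finset.sum_eq_single φ]
        · rw [hsep' φ.1 φ.1 _ (w φ).2, if_pos rfl]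
        · intro ψ _ hne'
          rw [hsep' ψ.1 φ.1 _ (w ψ).2, if_neg fun h => hne' (Subtype.ext h)]
        · exact fun h => absurd (Finset.mem_univ _) h) }
  have hdim : ∑ φ : I, finrank ℂ (W φ) = finrank ℂ V := by
    rw [LinearEquiv.finrank_eq Φ, Module.finrank_pi_fintype]
  have hpos : ∀ φ : I, 1 ≤ finrank ℂ (W φ) := fun φ =>
    Nat.one_le_iff_ne_zero.2 fun h => φ.2 (LinearMap.range_eq_bot.1 (Submodule.finrank_eq_zero.1 h))
  have htwo : 2 ≤ Fintype.card I := by
    by_contra hlt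
    haveI : Subsingleton I := Fintype.card_le_one_iff_subsingleton.1 (by omega)
    obtain ⟨a, ha, hns⟩ := hns
    rcases isEmpty_or_nonempty I with hI | ⟨⟨φ⟩⟩
    · refine hns ⟨0, fun v => ?_⟩
      have h0 := hdec v
      rw [Fintype.sum_empty] at h0
      rw [← h0, map_zero, smul_zero]
    · refine hns ⟨((φ.1 ⟨a, ha⟩ : ℂˣ) : ℂ), fun v => hW φ.1 v ?_ ⟨a, ha⟩⟩
      have h0 := hdec v
      rw [Fintype.sum_subsingleton _ φ] at h0
      exact ⟨v, h0⟩
  have hsmall : ∀ φ : I, finrank ℂ (W φ) < finrank ℂ V := by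
    intro φ
    rw [← hdim, ← Finset.add_sum_erase _ _ (Finset.mem_univ φ)]
    refine Nat.lt_add_of_pos_right (Finset.sum_pos (fun ψ _ => hpos ψ) ?_)
    rw [← Finset.card_pos, Finset.card_erase_of_mem (Finset.mem_univ φ), Finset.card_univ]
    omega
  -- the kernel
  have hker : ∀ (φ : I) (g : σ.ker), ∀ w ∈ W φ, ρ (g : G) w ∈ W φ := by
    rintro φ g _ ⟨v, rfl⟩
    have h := congrArg Subtype.val (DFunLike.congr_fun (MonoidHom.mem_ker.1 g.2) φ)
    refine ⟨ρ (g : G) v, ?_⟩
    have h2 := LinearMap.congr_fun (hcje (g : G) φ.1) v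
    rw [show φ.1.comp (cjA (g : G)) = φ.1 from h] at h2
    exact h2.symm
  let f : ∀ φ : I, σ.ker →* (restr (ρ.comp σ.ker.subtype) (W φ) (fun g w hw => hker φ g w hw)).range :=
    fun φ => (restr (ρ.comp σ.ker.subtype) (W φ) (fun g w hw => hker φ g w hw)).rangeRestrict
  haveI hFn : ∀ φ : I, Finite (restr (ρ.comp σ.ker.subtype) (W φ) (fun g w hw => hker φ g w hw)).range :=
    fun φ => Finite.of_surjective _ (MonoidHom.rangeRestrict_surjective
      (restr (ρ.comp σ.ker.subtype) (W φ) (fun g w hw => hker φ g w hw)))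
  haveI hFF : ∀ φ : I, (Cfsg.fittingSubgroup
      (restr (ρ.comp σ.ker.subtype) (W φ) (fun g w hw => hker φ g w hw)).range).Normal :=
    fun φ => CfsgLib.Coprime.fitting_normal
  haveI : (Cfsg.fittingSubgroup σ.ker).Normal := CfsgLib.Coprime.fitting_normal
  have hK : KC (σ.ker ⧸ Cfsg.fittingSubgroup σ.ker) (∏ φ : I, 3 ^ (finrank ℂ (W φ) - 1)) := by
    refine kc_of_embed f (fun φ => MonoidHom.rangeRestrict_surjective _) (fun g hg => ?_) _ fun φ => ?_
    · refine Subtype.ext (hρ ?_)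
      rw [OneMemClass.coe_one, map_one]
      refine LinearEquiv.ext fun v => ?_
      show ρ (g : G) v = v
      rw [← hdec v, map_sum]
      refine Finset.sum_congr rfl fun φ _ => ?_
      exact congrArg Subtype.val (DFunLike.congr_fun (congrArg Subtype.val (hg φ)) (⟨e φ.1 v, ⟨v, rfl⟩⟩ : W φ))
    · exact ih _ (hsmall φ) _ (W φ)
        (restr (ρ.comp σ.ker.subtype) (W φ) (fun g w hw => hker φ g w hw)).range.subtype
        (Subgroup.subtype_injective _) (Group.isSolvable_of_surjective (MonoidHom.rangeRestrict_surjective _)) rfl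
  have hperm : KC (G ⧸ σ.ker) (3 ^ (Fintype.card I - 1)) := by
    haveI : Group.IsSolvable σ.range := Group.isSolvable_of_surjective σ.rangeRestrict_surjective
    refine KC.of_card ?_
    rw [Nat.card_congr (QuotientGroup.quotientKerEquivRange σ).toEquiv, ← Nat.card_eq_fintype_card]
    exact card_perm_subgroup_le σ.range
  refine (kc_of_normal σ.ker hK hperm).mono ?_
  rw [Finset.prod_pow_eq_pow_sum, ← pow_add]
  refine Nat.pow_le_pow_right (by norm_num) ?_
  have hsub : ∑ φ : I, (finrank ℂ (W φ) - 1) + Fintype.card I = finrank ℂ V := by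
    rw [← Finset.card_univ, Finset.card_eq_sum_ones, ← Finset.sum_add_distrib, ← hdim]
    exact Finset.sum_congr rfl fun φ _ => Nat.sub_add_cancel (hpos φ)
  omega

end CfsgLib.Coprime.ClassMod
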