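import Cfsg.Agent.Lib.Coprime.ClassMod.Basic
import Cfsg.Agent.Lib.Char.Berger.Main

/-!
# Orders of solvable linear groups in small dimensions
-/

set_option autoImplicit false
set_option linter.unusedSectionVars false
set_option linter.style.haveILetI false
set_option maxHeartbeats 1000000

namespace CfsgLib.Coprime.ClassMod

open Module CfsgLib.Char CfsgLib.Char.Berger
open scoped commutatorElement

universe v

/-- the order bound for solvable semisimple groups in dimension `n` -/
def OB (p : ℕ) [Fact p.Prime] (n c : ℕ) : Prop :=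
  ∀ (V : Type v) [AddCommGroup V] [Module (ZMod p) V] [Finite V], finrank (ZMod p) V = n →
    ∀ G : Subgroup (V ≃ₗ[ZMod p] V), Group.IsSolvable G → SS G → Nat.card G ≤ c

/-- the order bound for solvable irreducible groups in dimension `n` -/
def OI (p : ℕ) [Fact p.Prime] (n c : ℕ) : Prop :=
  ∀ (V : Type v) [AddCommGroup V] [Module (ZMod p) V] [Finite V], finrank (ZMod p) V = n →
    ∀ G : Subgroup (V ≃ₗ[ZMod p] V), Group.IsSolvable G → Irr G → Nat.card G ≤ c

variable {p : ℕ} [Fact p.Prime]

theorem ss_of_irr {V : Type v} [AddCommGroup V] [Module (ZMod p) V] {G : Subgroup (V ≃ₗ[ZMod p] V)}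
    (hi : Irr G) : SS G := fun W hW => by
  rcases hi W hW with rfl | rfl
  · exact ⟨⊤, fun _ _ _ _ => Submodule.mem_top, isCompl_bot_top⟩
  · exact ⟨⊥, fun g _ w hw => by rw [Submodule.mem_bot] at hw ⊢; rw [hw, map_zero], isCompl_top_bot⟩

theorem OB.oi {n c : ℕ} (h : OB.{v} p n c) : OI.{v} p n c :=
  fun V _ _ _ hn G hs hi => h V hn G hs (ss_of_irr hi)

variable {V : Type v} [AddCommGroup V] [Module (ZMod p) V] [Finite V]

theorem OB.res {n : ℕ} {B : ℕ → ℕ} (ih : ∀ m < n, OB.{v} p m (B m)) {H : Subgroup (V ≃ₗ[ZMod p] V)}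
    (hs : Group.IsSolvable H) (hss : SS H) {W : Submodule (ZMod p) V} (h : Inv H W)
    (hlt : finrank (ZMod p) W < n) : Nat.card (resHom h).range ≤ B (finrank (ZMod p) W) :=
  haveI := hs
  ih _ hlt W rfl _ (Group.isSolvable_of_surjective (resHom h).rangeRestrict_surjective) (hss.res h)

theorem finrank_prop {W : Submodule (ZMod p) V} (h0 : W ≠ ⊥) (h1 : W ≠ ⊤) :
    0 < finrank (ZMod p) W ∧ finrank (ZMod p) W < finrank (ZMod p) V :=
  ⟨Nat.pos_of_ne_zero fun h => h0 (Submodule.finrank_eq_zero.1 h), Submodule.finrank_lt h1⟩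

/-- a reducible semisimple group embeds in a product -/
theorem reducible_embed {G : Subgroup (V ≃ₗ[ZMod p] V)} {W W' : Submodule (ZMod p) V} (hW : Inv G W)
    (hW' : Inv G W') (hc : IsCompl W W') :
    Function.Injective ((resHom hW).rangeRestrict.prod (resHom hW').rangeRestrict) := by
  refine (injective_iff_map_eq_one _).2 fun g hg => Subtype.ext (LinearEquiv.ext fun v => ?_)
  obtain ⟨a, ha, b, hb, rfl⟩ := Submodule.mem_sup.1 (hc.sup_eq_top.ge (Submodule.mem_top : v ∈ ⊤))
  rw [map_add, resHom_eq_one hW (congrArg Subtype.val (congrArg Prod.fst hg)) ha,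
    resHom_eq_one hW' (congrArg Subtype.val (congrArg Prod.snd hg)) hb]
  rfl

/-- an imprimitive irreducible group: the kernel on the blocks embeds in a product -/
theorem blocks_embed [Nontrivial V] {G : Subgroup (V ≃ₗ[ZMod p] V)} (hi : Irr G) {ι : Type v} [Fintype ι]
    (W : ι → Submodule (ZMod p) V) (σ : G →* Equiv.Perm ι)
    (hker : ∀ g ∈ σ.ker, ∀ i, ∀ w ∈ W i, (g : V ≃ₗ[ZMod p] V) w ∈ W i)
    (hfaith : ∀ g : G, (∀ i, ∀ w ∈ W i, (g : V ≃ₗ[ZMod p] V) w = w) → g = 1) :
    SS (σ.ker.map G.subtype) ∧ ∃ h : ∀ i, Inv (σ.ker.map G.subtype) (W i),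
      Function.Injective ((Pi.monoidHom fun i => (resHom (h i)).rangeRestrict).comp
        (σ.ker.equivMapOfInjective G.subtype G.subtype_injective).toMonoidHom :
          σ.ker →* ∀ i, (resHom (h i)).range) := by
  refine ⟨SS.normal hi (Subgroup.map_subtype_le _) ?_, ?_, ?_⟩
  · rintro g hg _ ⟨x, hx, rfl⟩
    exact ⟨_, (MonoidHom.normal_ker σ).conj_mem x hx ⟨g, hg⟩, rfl⟩
  · rintro i _ ⟨x, hx, rfl⟩ w hw
    exact hker x hx i w hw
  · refine (injective_iff_map_eq_one _).2 fun g hg => Subtype.ext (hfaith (g : G) fun i w hw => ?_)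
    exact resHom_eq_one _ (congrArg Subtype.val (congrFun hg i)) hw

theorem exists_minimal_normal_elementary_sub {G : Type*} [Group G] [Finite G] [Group.IsSolvable G]
    {D : Subgroup G} [D.Normal] (hD : D ≠ ⊥) :
    ∃ (p : ℕ) (M : Subgroup G), p.Prime ∧ M.Normal ∧ M ≤ D ∧ M ≠ ⊥ ∧
      (∀ a ∈ M, ∀ b ∈ M, a * b = b * a) ∧ (∀ a ∈ M, a ^ p = 1) ∧
      ∀ U : Subgroup G, U.Normal → U ≤ M → U = ⊥ ∨ U = M := by
  obtain ⟨p, M, hp, hMn, hMD, hM, hc, he⟩ := exists_normal_elementary_sub hD
  obtain ⟨N, ⟨hNn, hNM, hN⟩, hmin⟩ := Set.Finite.exists_minimal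
    (Set.toFinite {U : Subgroup G | U.Normal ∧ U ≤ M ∧ U ≠ ⊥}) ⟨M, hMn, le_rfl, hM⟩
  refine ⟨p, N, hp, hNn, hNM.trans hMD, hN, fun a ha b hb => hc a (hNM ha) b (hNM hb),
    fun a ha => he a (hNM ha), fun U hU hUN => ?_⟩
  by_cases h : U = ⊥
  · exact Or.inl h
  · exact Or.inr (le_antisymm hUN (hmin ⟨hU, hUN.trans hNM, h⟩ hUN))

theorem card_range_le' {q n c : ℕ} [Fact q.Prime] {M : Type v} [CommGroup M] [Finite M]
    [Module (ZMod q) (Additive M)] {H : Type*} [Group H]
    [Finite H] [Group.IsSolvable H] (cj : H →* MulAut M) (hc : OI.{v} q n c)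
    (hcard : Nat.card M = q ^ n) (hirr : ∀ U : Subgroup M, (∀ h, ∀ u ∈ U, cj h u ∈ U) → U = ⊥ ∨ U = ⊤) :
    Nat.card cj.range ≤ c := by
  haveI : Finite (Additive M) := Finite.of_equiv M Additive.ofMul
  have hn : finrank (ZMod q) (Additive M) = n := by
    refine Nat.pow_right_injective (Fact.out : q.Prime).two_le ?_
    show q ^ finrank (ZMod q) (Additive M) = q ^ n
    rw [← hcard, Nat.card_congr (Additive.ofMul (α := M)), Module.natCard_eq_pow_finrank (K := ZMod q) (V := Additive M), Nat.card_zmod]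
  have hi : Irr ((toLin q M).comp cj).range := by
    intro W hW
    let U : Subgroup M :=
      { carrier := {x | Additive.ofMul x ∈ W}
        one_mem' := zero_mem W
        mul_mem' := fun {a b} ha hb => add_mem (s := W) ha hb
        inv_mem' := fun {a} ha => neg_mem (s := W) ha }
    rcases hirr U (fun h u hu => hW _ ⟨h, rfl⟩ _ hu) with hU | hU
    · refine Or.inl ((Submodule.eq_bot_iff W).2 fun w hw => ?_)
      have hmem : w.toMul ∈ U := hw
      rw [hU, Subgroup.mem_bot] at hmem
      exact congrArg Additive.ofMul hmem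
    · refine Or.inr (eq_top_iff.2 fun w _ => ?_)
      exact (hU ▸ Subgroup.mem_top w.toMul : w.toMul ∈ U)
  refine le_trans (le_of_eq ?_) (hc (Additive M) hn ((toLin q M).comp cj).range
    (Group.isSolvable_of_surjective ((toLin q M).comp cj).rangeRestrict_surjective) hi)
  have hk : ((toLin q M).comp cj).ker = cj.ker := by
    ext h
    refine ⟨fun hh => MulEquiv.ext fun x => ?_, fun hh => ?_⟩
    · exact congrArg Additive.toMul (DFunLike.congr_fun hh (Additive.ofMul x))
    · rw [MonoidHom.mem_ker, MonoidHom.comp_apply, MonoidHom.mem_ker.1 hh, map_one]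
  rw [← Subgroup.index_ker, ← hk, Subgroup.index_ker]

theorem card_range_le {q n c : ℕ} [Fact q.Prime] {M : Type v} [CommGroup M] [Finite M] {H : Type*} [Group H]
    [Finite H] [Group.IsSolvable H] (cj : H →* MulAut M) (hc : OI.{v} q n c) (hexp : ∀ x : M, x ^ q = 1)
    (hcard : Nat.card M = q ^ n) (hirr : ∀ U : Subgroup M, (∀ h, ∀ u ∈ U, cj h u ∈ U) → U = ⊥ ∨ U = ⊤) :
    Nat.card cj.range ≤ c :=
  @card_range_le' q n c _ M _ _ (AddCommGroup.zmodModule fun a => congrArg Additive.ofMul (hexp a.toMul))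
    H _ _ _ cj hc hcard hirr

theorem field_cases [Nontrivial V] (G : Subgroup (V ≃ₗ[ZMod p] V)) (hs : Group.IsSolvable G) (hi : Irr G)
    (B : ℕ → ℕ) (ih : ∀ m < finrank (ZMod p) V, OB.{v} p m (B m))
    (T : ℕ → ℕ → ℕ) (hT : ∀ q a : ℕ, ∀ _ : Fact q.Prime, q ≠ p → 1 ≤ a → q ^ a ≤ finrank (ZMod p) V →
      OI.{v} q (2 * a) (T q a))
    (A : Subgroup G) [A.Normal]
    (hA : ∀ a ∈ A, ∀ b ∈ A, a * b = b * a)
    (hmax : ∀ A' : Subgroup G, A'.Normal → (∀ a ∈ A', ∀ b ∈ A', a * b = b * a) → A ≤ A' → A' = A)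
    (hK : IsField (spanAlg G.subtype A)) :
    (∃ s, 1 ≤ s ∧ s ≤ finrank (ZMod p) V ∧ Nat.card G ≤ s * Nat.card A ∧ Nat.card A ∣ p ^ s - 1 ∧
      finrank (ZMod p) (spanAlg G.subtype A) = s) ∨
    ∃ q a m s s0 u : ℕ, q.Prime ∧ q ≠ p ∧ 1 ≤ a ∧ finrank (ZMod p) V = q ^ a * m ∧ 1 ≤ s0 ∧ 1 ≤ u ∧ s0 * u = s ∧
      s ≤ m ∧ q ∣ p ^ s0 - 1 ∧
      Nat.card G ≤ T q a * u * q ^ (2 * a) * (if s = m then p ^ m - 1 else B m) := by
  classical
  haveI := hs
  haveI := finite_moduleEnd (q := p) (V := V)
  haveI : Finite G := inferInstance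
  have hp : p.Prime := Fact.out
  set K := spanAlg G.subtype A with hKdef
  haveI : Finite K := Subtype.finite
  letI : Field K := hK.toField
  set τ := toEndHom G.subtype with hτ
  have hτinj : Function.Injective τ := toEndHom_injective G.subtype_injective
  have hτmem : ∀ a ∈ A, τ a ∈ K := fun a ha => toEndHom_mem_spanAlg G.subtype ha
  obtain ⟨v₀, hv₀⟩ := exists_ne (0 : V)
  -- no elements of order `p` in `A`
  have hAp : ∀ a ∈ A, a ^ p = 1 → a = 1 := fun a ha hap => by
    have hpow : (τ a) ^ p = 1 := by rw [← map_pow, hap, map_one]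
    haveI : CharP K p := charP_of_injective_algebraMap (algebraMap (ZMod p) K).injective p
    haveI : ExpChar K p := ExpChar.prime hp
    have h1 : ((⟨τ a, hτmem a ha⟩ : K) - 1) ^ p = 0 := by
      rw [sub_pow_expChar, one_pow, sub_eq_zero]
      exact Subtype.ext hpow
    have h2 := eq_zero_of_pow_eq_zero h1
    exact hτinj (by rw [map_one]; exact congrArg Subtype.val (sub_eq_zero.1 h2))
  let ψ : G →* (K ≃ₐ[ZMod p] K) :=
    { toFun := fun g => AlgEquiv.ofAlgHom
        ((((conjEnd G.subtype g).comp K.val)).codRestrict K fun x => conjEnd_mem_spanAlg G.subtype g x.2)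
        ((((conjEnd G.subtype g⁻¹).comp K.val)).codRestrict K fun x => conjEnd_mem_spanAlg G.subtype g⁻¹ x.2)
        (AlgHom.ext fun x => Subtype.ext (by
          show conjEnd G.subtype g (conjEnd G.subtype g⁻¹ (x : Module.End (ZMod p) V)) = x
          rw [← conjEnd_mul, mul_inv_cancel, conjEnd_one]))
        (AlgHom.ext fun x => Subtype.ext (by
          show conjEnd G.subtype g⁻¹ (conjEnd G.subtype g (x : Module.End (ZMod p) V)) = x
          rw [← conjEnd_mul, inv_mul_cancel, conjEnd_one]))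
      map_one' := AlgEquiv.ext fun x => Subtype.ext (conjEnd_one _ _)
      map_mul' := fun g h => AlgEquiv.ext fun x => Subtype.ext (conjEnd_mul _ g h _) }
  have hψval : ∀ g (x : K), (ψ g x : Module.End (ZMod p) V) = conjEnd G.subtype g x := fun g x => rfl
  let C := Subgroup.centralizer (A : Set G)
  have hψker : ψ.ker = C := by
    ext g
    rw [MonoidHom.mem_ker, Subgroup.mem_centralizer_iff]
    constructor
    · intro h a ha
      have h1 := congrArg Subtype.val (DFunLike.congr_fun h (⟨τ a, hτmem a ha⟩ : K))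
      rw [hψval, conjEnd_toEndHom] at h1
      have h2 := hτinj h1
      calc a * g = g * a * g⁻¹ * g := by rw [h2]
        _ = g * a := by group
    · intro h
      refine AlgEquiv.ext fun x => Subtype.ext ?_
      rw [hψval, conjEnd_apply]
      have hc := commute_spanAlg G.subtype (g := g) (fun a ha => (h a ha).symm) x.2
      rw [hc.eq, mul_assoc, ← map_mul, mul_inv_cancel, map_one, mul_one]
      rfl
  haveI hCn : C.Normal := hψker ▸ MonoidHom.normal_ker ψ
  have hAC : A ≤ C := fun a ha => Subgroup.mem_centralizer_iff.2 fun b hb => hA b hb a ha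
  set s := finrank (ZMod p) K with hsdef
  have hsn : s ≤ finrank (ZMod p) V := by
    refine LinearMap.finrank_le_finrank_of_injective (f := (LinearMap.applyₗ v₀).comp K.val.toLinearMap) ?_
    intro x y h
    by_contra hne
    obtain ⟨w, hw⟩ := hK.mul_inv_cancel (sub_ne_zero.2 hne)
    have hw' : (w * (x - y) : K) = 1 := by rw [hK.mul_comm, hw]
    have h0 : ((x - y : K) : Module.End (ZMod p) V) v₀ = 0 := by
      show ((x : Module.End (ZMod p) V) - y) v₀ = 0
      rw [LinearMap.sub_apply, sub_eq_zero]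
      exact h
    have := congrArg (fun z : K => (z : Module.End (ZMod p) V) v₀) hw'
    simp only [Subalgebra.coe_mul, Module.End.mul_apply, h0, map_zero, Subalgebra.coe_one, Module.End.one_apply] at this
    exact hv₀ this.symm
  have hKcard : Nat.card K = p ^ s := by rw [Module.natCard_eq_pow_finrank (K := ZMod p), Nat.card_zmod]
  have hs1 : 1 ≤ s := Module.finrank_pos
  have haut : Nat.card ψ.range ≤ s := by
    refine (Subgroup.card_le_card_group _).trans (le_of_eq ?_)
    rw [IsGalois.card_aut_eq_finrank]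
  have hAcard : Nat.card A ∣ p ^ s - 1 := by
    let u : A →* Kˣ := MonoidHom.toHomUnits
      ({ toFun := fun x => ⟨τ (x : G), hτmem _ x.2⟩
         map_one' := Subtype.ext (map_one τ)
         map_mul' := fun x y => Subtype.ext (map_mul τ (x : G) (y : G)) } : A →* K)
    have hu : Function.Injective u := fun x y h =>
      Subtype.ext (hτinj (congrArg Subtype.val (congrArg Units.val h)))
    refine (Subgroup.card_dvd_of_injective u hu).trans (dvd_of_eq ?_)
    rw [← hKcard, Nat.card_units]
  by_cases hCA : C = A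
  · refine Or.inl ⟨s, hs1, hsn, ?_, hAcard, rfl⟩
    rw [← ψ.ker.index_mul_card, Subgroup.index_ker, hψker, hCA]
    exact Nat.mul_le_mul_right _ haut
  -- an elementary section of the centralizer
  set π := QuotientGroup.mk' A with hπ
  haveI : (C.map π).Normal := hCn.map π (QuotientGroup.mk'_surjective A)
  have hD : C.map π ≠ ⊥ := fun h => hCA (le_antisymm (by
    have := (Subgroup.map_eq_bot_iff C).1 h
    rwa [hπ, QuotientGroup.ker_mk'] at this) hAC)
  obtain ⟨q, M, hq, hMn, hMD, hMne, hMcomm, hMexp, hMmin⟩ := exists_minimal_normal_elementary_sub hD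
  haveI := hMn
  haveI : Fact q.Prime := ⟨hq⟩
  set E := M.comap π with hEdef
  haveI hEn : E.Normal := inferInstance
  have hAE : A ≤ E := fun a ha => by
    rw [hEdef, Subgroup.mem_comap, hπ, QuotientGroup.mk'_apply, (QuotientGroup.eq_one_iff a).2 ha]
    exact one_mem M
  have hEC : E ≤ C := fun e he => by
    obtain ⟨c, hc, hce⟩ := hMD he
    obtain ⟨z, hz, rfl⟩ := (QuotientGroup.mk'_eq_mk' A).1 hce
    exact mul_mem hc (hAC hz)
  have hEA : ∀ a ∈ A, ∀ e ∈ E, a * e = e * a := fun a ha e he =>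
    Subgroup.mem_centralizer_iff.1 (hEC he) a ha
  have hcommA : ∀ x ∈ E, ∀ y ∈ E, ⁅x, y⁆ ∈ A := fun x hx y hy => by
    rw [← QuotientGroup.eq_one_iff, ← QuotientGroup.mk'_apply, ← hπ, map_commutatorElement,
      commutatorElement_eq_one_iff_mul_comm]
    exact hMcomm _ hx _ hy
  have hpowA : ∀ x ∈ E, x ^ q ∈ A := fun x hx => by
    rw [← QuotientGroup.eq_one_iff, ← QuotientGroup.mk'_apply, ← hπ, map_pow]
    exact hMexp _ hx
  have hnd : ∀ x ∈ E, (∀ y ∈ E, ⁅x, y⁆ = 1) → x ∈ A := by
    intro x hx h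
    have hZ : E ⊓ Subgroup.centralizer (E : Set G) = A := by
      refine hmax _ inferInstance (fun a ha b hb => ?_) (le_inf hAE fun a ha =>
        Subgroup.mem_centralizer_iff.2 fun e he => (hEA a ha e he).symm)
      exact (Subgroup.mem_centralizer_iff.1 ha.2 b hb.1).symm
    rw [← hZ]
    exact ⟨hx, Subgroup.mem_centralizer_iff.2 fun y hy =>
      (commutatorElement_eq_one_iff_mul_comm.1 (h y hy)).symm⟩
  have hconjpow : ∀ g x c : G, g * x * g⁻¹ = c * x → c * x = x * c → ∀ k : ℕ, g * x ^ k * g⁻¹ = c ^ k * x ^ k :=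
    fun g x c h hc k => by rw [← conj_pow, h, (show Commute c x from hc).mul_pow]
  -- a non-trivial commutator
  obtain ⟨x₀, hx₀, y₀, hy₀, hc₀⟩ : ∃ x ∈ E, ∃ y ∈ E, ⁅x, y⁆ ≠ 1 := by
    by_contra! h
    refine hMne ((Subgroup.eq_bot_iff_forall M).2 fun m hm => ?_)
    obtain ⟨e, rfl⟩ := QuotientGroup.mk'_surjective A m
    have hEA' : E = A := hmax E hEn (fun a ha b hb => commutatorElement_eq_one_iff_mul_comm.1 (h a ha b hb)) hAE
    have he : e ∈ A := hEA' ▸ (show e ∈ E from hm)
    exact (QuotientGroup.eq_one_iff e).2 he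
  set c₀ := ⁅x₀, y₀⁆ with hc₀def
  have hc₀A : c₀ ∈ A := hcommA _ hx₀ _ hy₀
  have hc₀q : c₀ ^ q = 1 := by
    have h1 : x₀ * y₀ * x₀⁻¹ = c₀ * y₀ := by rw [hc₀def, commutatorElement_def]; group
    have h2 := hconjpow x₀ y₀ c₀ h1 (hEA _ hc₀A _ hy₀) q
    rw [← hEA _ (hpowA y₀ hy₀) _ hx₀, mul_inv_cancel_right] at h2
    exact mul_right_cancel (h2.symm.trans (one_mul _).symm)
  have hqp : q ≠ p := fun h => hc₀ (hAp _ hc₀A (h ▸ hc₀q))
  -- matrix units
  let f : E →* Module.End (ZMod p) V := τ.comp E.subtype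
  have hKc : ∀ z ∈ K.toSubring, ∀ e, z * f e = f e * z := fun z hz e =>
    (commute_spanAlg G.subtype (fun a ha => (hEA a ha e e.2).symm) hz).eq.symm
  obtain ⟨d, a', b', i₀, hidx, hzR, hba, hab, hone, hb0, hbb⟩ := exists_matrix_units (A.subgroupOf E) K.toSubring
    hK f (fun a ha => hτmem _ ha) hKc (fun x y => hcommA _ x.2 _ y.2) (fun x h => hnd x x.2 fun y hy => by
      have h1 := h ⟨y, hy⟩
      exact hτinj (h1.trans (map_one τ).symm))
  have hMcard : Nat.card M = d ^ 2 := by
    rw [← hidx]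
    have h1 : ((π.comp E.subtype)).ker = A.subgroupOf E := by
      ext e
      rw [MonoidHom.mem_ker, Subgroup.mem_subgroupOf, MonoidHom.comp_apply, hπ, QuotientGroup.mk'_apply,
        QuotientGroup.eq_one_iff]
      rfl
    have h2 : (π.comp E.subtype).range = M := by
      rw [MonoidHom.range_comp, Subgroup.range_subtype, hEdef,
        Subgroup.map_comap_eq_self_of_surjective (QuotientGroup.mk'_surjective A)]
    rw [← h1, Subgroup.index_ker, h2]
  obtain ⟨r, hr⟩ : ∃ r, Nat.card M = q ^ r := IsPGroup.iff_card.1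
    fun x => ⟨1, Subtype.ext (by rw [pow_one, SubgroupClass.coe_pow, hMexp x x.2]; rfl)⟩
  obtain ⟨a, -, rfl⟩ := (Nat.dvd_prime_pow hq).1 (Dvd.intro_left d ((sq d).symm.trans (hMcard.symm.trans hr)) : d ∣ q ^ r)
  obtain rfl : r = 2 * a := by
    rw [hr, ← pow_mul, mul_comm] at hMcard
    exact Nat.pow_right_injective hq.two_le hMcard
  have ha1 : 1 ≤ a := by
    by_contra h
    obtain rfl : a = 0 := by omega
    exact hMne (Subgroup.card_eq_one.1 (hr.trans (by norm_num)))
  -- the small space
  set W := LinearMap.range (b' i₀) with hWdef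
  have hWfix : ∀ w : W, b' i₀ (w : V) = w := by
    rintro ⟨_, u, rfl⟩
    show b' i₀ (b' i₀ u) = b' i₀ u
    rw [← Module.End.mul_apply, hbb]
  let Φ : V ≃ₗ[ZMod p] (Fin (q ^ a) → W) :=
    { toFun := fun v i => ⟨b' i v, ⟨b' i v, by rw [← Module.End.mul_apply, hb0]⟩⟩
      map_add' := fun x y => funext fun i => Subtype.ext (map_add _ _ _)
      map_smul' := fun c x => funext fun i => Subtype.ext (map_smul _ _ _)
      invFun := fun w => ∑ i, a' i (w i)
      left_inv := fun v => by
        show ∑ i, a' i (b' i v) = v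
        simp only [← Module.End.mul_apply, ← LinearMap.sum_apply, hone, Module.End.one_apply]
      right_inv := fun w => funext fun i => Subtype.ext (by
        show b' i (∑ j, a' j (w j)) = w i
        rw [map_sum, Finset.sum_eq_single i]
        · rw [← Module.End.mul_apply, hba, hWfix]
        · intro j _ hne
          rw [← Module.End.mul_apply, hab i j (Ne.symm hne)]
          rfl
        · exact fun h => absurd (Finset.mem_univ _) h) }
  set m := finrank (ZMod p) W with hmdef
  have hn : finrank (ZMod p) V = q ^ a * m := by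
    rw [LinearEquiv.finrank_eq Φ, Module.finrank_pi_fintype, Finset.sum_const, Finset.card_univ,
      Fintype.card_fin, smul_eq_mul]
  have hKb : ∀ z ∈ K, z * b' i₀ = b' i₀ * z := fun z hz =>
    (hzR z (hKc z hz) (fun c hc => (commute_in_spanAlg G.subtype hA hz hc).eq) i₀).2
  have hnV := Module.finrank_pos (R := ZMod p) (M := V)
  have hm0 : 0 < m := Nat.pos_of_ne_zero fun h => by rw [hn, h, mul_zero] at hnV; exact lt_irrefl _ hnV
  have hsm : s ≤ m := by
    haveI : Nontrivial W := Module.nontrivial_of_finrank_pos hm0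
    obtain ⟨w₀, hw₀⟩ := exists_ne (0 : W)
    refine LinearMap.finrank_le_finrank_of_injective (f := LinearMap.codRestrict W
      ((LinearMap.applyₗ (w₀ : V)).comp K.val.toLinearMap) fun z => ⟨(z : Module.End (ZMod p) V) w₀, by
        show b' i₀ ((z : Module.End (ZMod p) V) w₀) = (z : Module.End (ZMod p) V) w₀
        rw [← Module.End.mul_apply, ← hKb _ z.2, Module.End.mul_apply, hWfix]⟩) ?_
    refine (injective_iff_map_eq_zero _).2 fun x hx => ?_
    by_contra hne
    obtain ⟨w, hw⟩ := hK.mul_inv_cancel hne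
    rw [hK.mul_comm] at hw
    have h0 : (x : Module.End (ZMod p) V) (w₀ : V) = 0 := congrArg Subtype.val hx
    have := congrArg (fun z : K => (z : Module.End (ZMod p) V) (w₀ : V)) hw
    simp only [Subalgebra.coe_mul, Module.End.mul_apply, h0, map_zero, Subalgebra.coe_one, Module.End.one_apply] at this
    exact hw₀ (Subtype.ext this.symm)
  have hd2 : 2 ≤ q ^ a := hq.two_le.trans (Nat.le_self_pow (by omega) q)
  -- the elements centralizing `E`
  set Z := Subgroup.centralizer (E : Set G) with hZdef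
  haveI hZn : Z.Normal := Subgroup.normal_centralizer
  have hZbound : Nat.card Z ≤ if s = m then p ^ m - 1 else B m := by
    have hzc : ∀ g ∈ Z, ∀ i, τ g * a' i = a' i * τ g ∧ τ g * b' i = b' i * τ g := fun g hg => by
      refine hzR _ (fun e => ?_) (fun c hc => (commute_spanAlg G.subtype (fun x hx => ?_) hc).eq)
      · show τ g * τ e = τ e * τ g
        rw [← map_mul, ← map_mul, Subgroup.mem_centralizer_iff.1 hg e e.2]
      · exact (Subgroup.mem_centralizer_iff.1 hg x (hAE hx)).symm
    have hdet : ∀ g ∈ Z, (∀ w : W, τ g (w : V) = w) → g = 1 := fun g hg hgW => by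
      refine hτinj (LinearMap.ext fun v => ?_)
      rw [map_one, Module.End.one_apply]
      have hv : v = ∑ i, a' i ((Φ v i : W) : V) := (Φ.left_inv v).symm
      conv_lhs => rw [hv]
      rw [map_sum]
      refine (Finset.sum_congr rfl fun i _ => ?_).trans hv.symm
      rw [← Module.End.mul_apply, (hzc g hg i).1, Module.End.mul_apply, hgW]
    have hWZ : Inv (Z.map G.subtype) W := by
      rintro _ ⟨g, hg, rfl⟩ _ ⟨u, rfl⟩
      refine ⟨τ g u, ?_⟩
      rw [← Module.End.mul_apply, ← (hzc g hg i₀).2]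
      rfl
    haveI : Nontrivial W := Module.nontrivial_of_finrank_pos hm0
    split
    case isTrue heq =>
      obtain ⟨w₀, hw₀⟩ := exists_ne (0 : W)
      let L : K →ₗ[ZMod p] W := LinearMap.codRestrict W
        ((LinearMap.applyₗ (w₀ : V)).comp K.val.toLinearMap) fun z => ⟨(z : Module.End (ZMod p) V) w₀, by
          show b' i₀ ((z : Module.End (ZMod p) V) w₀) = (z : Module.End (ZMod p) V) w₀
          rw [← Module.End.mul_apply, ← hKb _ z.2, Module.End.mul_apply, hWfix]⟩
      have hLinj : Function.Injective L := (injective_iff_map_eq_zero L).2 fun x hx => by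
        by_contra hne
        obtain ⟨w, hw⟩ := hK.mul_inv_cancel hne
        rw [hK.mul_comm] at hw
        have h0 : (x : Module.End (ZMod p) V) (w₀ : V) = 0 := congrArg Subtype.val hx
        have := congrArg (fun z : K => (z : Module.End (ZMod p) V) (w₀ : V)) hw
        simp only [Subalgebra.coe_mul, Module.End.mul_apply, h0, map_zero, Subalgebra.coe_one, Module.End.one_apply] at this
        exact hw₀ (Subtype.ext this.symm)
      have hLsurj : Function.Surjective L :=
        (LinearMap.injective_iff_surjective_of_finrank_eq_finrank (by rw [← hsdef, heq, hmdef])).1 hLinj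
      let u : Z → {w : W // w ≠ 0} := fun g => ⟨⟨τ (g : G) (w₀ : V), hWZ _ ⟨(g : G), g.2, rfl⟩ _ w₀.2⟩, fun h => by
        have h1 : τ (g : G) (w₀ : V) = 0 := congrArg Subtype.val h
        have h2 : τ ((g : G)⁻¹ * (g : G)) (w₀ : V) = 0 := by rw [map_mul, Module.End.mul_apply, h1, map_zero]
        rw [inv_mul_cancel, map_one, Module.End.one_apply] at h2
        exact hw₀ (Subtype.ext h2)⟩
      have hu : Function.Injective u := fun g h hgh => by
        have h0 : τ (g : G) (w₀ : V) = τ (h : G) (w₀ : V) := congrArg Subtype.val (congrArg Subtype.val hgh)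
        have hw : ∀ w : W, τ ((h : G)⁻¹ * (g : G)) (w : V) = w := fun w => by
          obtain ⟨z, rfl⟩ := hLsurj w
          show τ ((h : G)⁻¹ * (g : G)) ((z : Module.End (ZMod p) V) (w₀ : V)) = (z : Module.End (ZMod p) V) (w₀ : V)
          have hmem : (h : G)⁻¹ * (g : G) ∈ Z := mul_mem (inv_mem h.2) g.2
          have hc := (commute_spanAlg G.subtype (g := (h : G)⁻¹ * (g : G)) (fun x hx =>
            (Subgroup.mem_centralizer_iff.1 hmem x (hAE hx)).symm) z.2).eq
          rw [← Module.End.mul_apply, hc, Module.End.mul_apply]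
          congr 1
          rw [map_mul, Module.End.mul_apply, h0, ← Module.End.mul_apply, ← map_mul, inv_mul_cancel, map_one,
            Module.End.one_apply]
        exact Subtype.ext (inv_mul_eq_one.1 (hdet _ (mul_mem (inv_mem h.2) g.2) hw)).symm
      refine (Nat.card_le_card_of_injective u hu).trans (le_of_eq ?_)
      letI := Fintype.ofFinite W
      rw [Nat.card_eq_fintype_card, Fintype.card_subtype_compl, Fintype.card_subtype_eq,
        ← Nat.card_eq_fintype_card, Module.natCard_eq_pow_finrank (K := ZMod p), Nat.card_zmod]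
    case isFalse hne =>
    have hZs : SS (Z.map G.subtype) := SS.normal hi (Subgroup.map_subtype_le _) (by
      rintro g hg _ ⟨x, hx, rfl⟩
      exact ⟨_, hZn.conj_mem x hx ⟨g, hg⟩, rfl⟩)
    haveI : Group.IsSolvable (Z.map G.subtype : Subgroup _) :=
      Group.isSolvable_of_isSolvable_injective (f := Subgroup.inclusion (Subgroup.map_subtype_le Z))
        (Subgroup.inclusion_injective _)
    have h1 := OB.res ih inferInstance hZs hWZ (by rw [← hmdef, hn]; nlinarith)
    refine le_trans ?_ h1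
    refine Nat.card_le_card_of_injective ((resHom hWZ).rangeRestrict.comp
      (Z.equivMapOfInjective G.subtype G.subtype_injective).toMonoidHom)
      ((injective_iff_map_eq_one _).2 fun g hg => ?_)
    exact Subtype.ext (hdet g g.2 fun w => resHom_eq_one hWZ (congrArg Subtype.val hg) w.2)
  -- action on the section
  let θ : G →* MulAut M := (MulAut.conjNormal : (G ⧸ A) →* MulAut M).comp π
  have hθ : Nat.card θ.range ≤ T q a := by
    letI : CommGroup M := { (inferInstance : Group M) with
      mul_comm := fun x y => Subtype.ext (hMcomm _ x.2 _ y.2) }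
    refine card_range_le θ (hT q a inferInstance hqp ha1 ?_) (fun x => Subtype.ext (hMexp x x.2)) hr ?_
    · rw [hn]; exact Nat.le_mul_of_pos_right _ hm0
    · intro U hU
      have hUn : (U.map M.subtype).Normal := by
        refine ⟨fun x hx g => ?_⟩
        obtain ⟨u, hu, rfl⟩ := hx
        obtain ⟨g, rfl⟩ := QuotientGroup.mk'_surjective A g
        exact ⟨θ g u, hU g u hu, rfl⟩
      rcases hMmin _ hUn (Subgroup.map_subtype_le U) with h | h
      · exact Or.inl ((Subgroup.map_eq_bot_iff_of_injective _ M.subtype_injective).1 h)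
      · exact Or.inr (Subgroup.map_injective M.subtype_injective (h.trans (by rw [← MonoidHom.range_eq_map, Subgroup.range_subtype])))
  set K₀ := θ.ker with hK₀
  have hK₀E : ∀ g ∈ K₀, ∀ e ∈ E, ⁅g, e⁆ ∈ A := fun g hg e he => by
    rw [← QuotientGroup.eq_one_iff, ← QuotientGroup.mk'_apply, ← hπ, map_commutatorElement, commutatorElement_def,
      mul_inv_eq_one]
    exact congrArg Subtype.val (DFunLike.congr_fun (MonoidHom.mem_ker.1 hg) (⟨π e, he⟩ : M))
  let ψ₀ : K₀ →* (K ≃ₐ[ZMod p] K) := ψ.comp K₀.subtype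
  have hfix : ∀ g ∈ K₀, g * c₀ * g⁻¹ = c₀ := fun g hg => by
    have hx := hK₀E g hg _ hx₀
    have hy := hK₀E g hg _ hy₀
    have e1 : g * x₀ * g⁻¹ = ⁅g, x₀⁆ * x₀ := by rw [commutatorElement_def]; group
    have e2 : g * y₀ * g⁻¹ = ⁅g, y₀⁆ * y₀ := by rw [commutatorElement_def]; group
    have e3 : g * c₀ * g⁻¹ = ⁅g * x₀ * g⁻¹, g * y₀ * g⁻¹⁆ := by
      rw [hc₀def]; simp only [commutatorElement_def]; group
    rw [e3, e1, e2, hEA _ hy _ hy₀, commutatorElement_mem_centre_mul_right (hEA _ hy _ (mul_mem (hAE hx) hx₀)),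
      hEA _ hx _ hx₀, commutatorElement_mem_centre_mul_left (hEA _ hx _ hy₀)]
  set F : IntermediateField (ZMod p) K := IntermediateField.fixedField ψ₀.range with hF
  have hu : finrank F K = Nat.card ψ₀.range := IntermediateField.finrank_fixedField_eq_card _
  have hs0u : finrank (ZMod p) F * Nat.card ψ₀.range = s := by
    rw [← hu, Module.finrank_mul_finrank]
  let k₀ : K := ⟨τ c₀, hτmem _ hc₀A⟩
  have hk₀F : k₀ ∈ F := by
    rw [hF]
    intro φ
    obtain ⟨g, hg⟩ := φ.2
    show (φ : K ≃ₐ[ZMod p] K) k₀ = k₀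
    rw [← hg]
    refine Subtype.ext ?_
    show conjEnd G.subtype (g : G) (τ c₀) = τ c₀
    rw [conjEnd_toEndHom, hfix g g.2]
  have hdiv : q ∣ p ^ finrank (ZMod p) F - 1 := by
    haveI : Finite F := Finite.of_injective (Subtype.val : F → K) Subtype.val_injective
    have hk1 : (⟨k₀, hk₀F⟩ : F) ≠ 0 := fun h => by
      have h1 : τ c₀ = 0 := congrArg Subtype.val (congrArg Subtype.val h)
      have h2 : τ (c₀ * c₀⁻¹) = 0 := by rw [map_mul, h1, zero_mul]
      rw [mul_inv_cancel, map_one] at h2
      exact hv₀ (DFunLike.congr_fun h2 v₀)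
    letI := Fintype.ofFinite F
    have hord : orderOf (⟨k₀, hk₀F⟩ : F) = q := by
      refine orderOf_eq_prime ?_ ?_
      · exact Subtype.ext (Subtype.ext (by
          show τ c₀ ^ q = 1
          rw [← map_pow, hc₀q, map_one]))
      · intro h
        exact hc₀ (hτinj ((congrArg Subtype.val (congrArg Subtype.val h) : τ c₀ = _).trans (map_one τ).symm))
    rw [← hord]
    refine orderOf_dvd_of_pow_eq_one ?_
    have hcF : Fintype.card F = p ^ finrank (ZMod p) F := by
      rw [Module.card_eq_pow_finrank (K := ZMod p), ZMod.card]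
    rw [← hcF]
    exact FiniteField.pow_card_sub_one_eq_one _ hk1
  -- the part centralizing `A`
  have hker0 : Nat.card ψ₀.ker ≤ q ^ (2 * a) * (if s = m then p ^ m - 1 else B m) := by
    have hmemC : ∀ g : ψ₀.ker, ((g : K₀) : G) ∈ C := fun g => by
      rw [← hψker]; exact g.2
    have hcom : ∀ (g : ψ₀.ker) (e : E), ⁅((g : K₀) : G), (e : G)⁆ ∈ A := fun g e => hK₀E _ (g : K₀).2 _ e.2
    letI : CommGroup A := { (inferInstance : Group A) with
      mul_comm := fun x y => Subtype.ext (hA _ x.2 _ y.2) }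
    let χ : ψ₀.ker →* (E → A) :=
      { toFun := fun g e => ⟨⁅((g : K₀) : G), (e : G)⁆, hcom g e⟩
        map_one' := funext fun e => Subtype.ext (commutatorElement_one_left _)
        map_mul' := fun g h => funext fun e => Subtype.ext (by
          show ⁅((g : K₀) : G) * ((h : K₀) : G), (e : G)⁆ = ⁅((g : K₀) : G), (e : G)⁆ * ⁅((h : K₀) : G), (e : G)⁆
          exact commutatorElement_mul_left_of_central
            (Subgroup.mem_centralizer_iff.1 (hmemC g) _ (hcom h e)).symm (hA _ (hcom g e) _ (hcom h e))) }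
    have hχker : Nat.card χ.ker ≤ Nat.card Z := by
      refine Nat.card_le_card_of_injective
        ((K₀.subtype.comp (ψ₀.ker.subtype.comp χ.ker.subtype)).codRestrict Z fun g => ?_) ?_
      · refine Subgroup.mem_centralizer_iff.2 fun e he => ?_
        have h1 := congrArg Subtype.val (congrFun (MonoidHom.mem_ker.1 g.2) ⟨e, he⟩)
        exact (commutatorElement_eq_one_iff_mul_comm.1 h1).symm
      · intro g h hgh
        exact Subtype.ext (Subtype.ext (Subtype.ext (congrArg Subtype.val hgh :)))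
    have hχrange : Nat.card χ.range ≤ q ^ (2 * a) := by
      let P : E →* M := (π.comp E.subtype).codRestrict M fun e => e.2
      have hPsurj : Function.Surjective P := by
        rintro ⟨x, hx⟩
        obtain ⟨e, rfl⟩ := QuotientGroup.mk'_surjective A x
        exact ⟨⟨e, hx⟩, rfl⟩
      have hk0 : IsPrimitiveRoot k₀ q := by
        refine IsPrimitiveRoot.iff_orderOf.2 (orderOf_eq_prime (Subtype.ext ?_) fun h => hc₀ (hτinj ?_))
        · show τ c₀ ^ q = 1
          rw [← map_pow, hc₀q, map_one]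
        · rw [map_one]; exact congrArg Subtype.val h
      haveI : Nontrivial M := (Subgroup.nontrivial_iff_ne_bot M).2 hMne
      letI : CommGroup M := { (inferInstance : Group M) with
        mul_comm := fun x y => Subtype.ext (hMcomm _ x.2 _ y.2) }
      haveI : HasEnoughRootsOfUnity K (Monoid.exponent M) := by
        have he : Monoid.exponent M = q := Monoid.exponent_eq_prime_iff hq |>.2 fun x hx =>
          orderOf_eq_prime (Subtype.ext (hMexp x x.2)) hx
        rw [he]
        haveI : NeZero q := ⟨hq.ne_zero⟩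
        exact ⟨⟨k₀, hk0⟩, rootsOfUnity.isCyclic K q⟩
      have hcard := CommGroup.card_monoidHom_of_hasEnoughRootsOfUnity M K
      rw [← hr, ← hcard]
      -- `χ g` as a character of `M`
      let ev : A →* Kˣ := (MonoidHom.toHomUnits
        ({ toFun := fun x => ⟨τ (x : G), hτmem _ x.2⟩
           map_one' := Subtype.ext (map_one τ)
           map_mul' := fun x y => Subtype.ext (map_mul τ (x : G) (y : G)) } : A →* K))
      have hev : Function.Injective ev := fun x y h =>
        Subtype.ext (hτinj (congrArg Subtype.val (congrArg Units.val h)))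
      have hlift : ∀ g : ψ₀.ker, ∃ f : M →* Kˣ, ∀ e : E, f (P e) = ev (χ g e) := by
        intro g
        let F : E →* Kˣ :=
          { toFun := fun e => ev (χ g e)
            map_one' := by
              rw [show χ g 1 = 1 from Subtype.ext (commutatorElement_one_right _), map_one]
            map_mul' := fun e e' => by
              rw [← map_mul]
              refine congrArg ev (Subtype.ext ?_)
              exact commutatorElement_mul_right_of_central (hEA _ (hcom g e') _ e.2).symm }
        refine ⟨(P.liftOfSurjective hPsurj) ⟨F, fun e he => ?_⟩, fun e => ?_⟩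
        · rw [MonoidHom.mem_ker] at he ⊢
          show ev (χ g e) = 1
          have heA : (e : G) ∈ A := (QuotientGroup.eq_one_iff _).1 (congrArg Subtype.val he)
          rw [show χ g e = 1 from Subtype.ext (commutatorElement_eq_one_iff_mul_comm.2
            (Subgroup.mem_centralizer_iff.1 (hmemC g) _ heA).symm), map_one]
        · exact MonoidHom.liftOfRightInverse_comp_apply _ _ _ ⟨F, _⟩ _
      choose f hf using hlift
      have hfeq : ∀ x : χ.range, ∃ g, χ g = x := fun x => x.2
      choose pre hpre using hfeq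
      refine Nat.card_le_card_of_injective (fun x : χ.range => f (pre x)) fun x y h => ?_
      refine Subtype.ext ?_
      rw [← hpre x, ← hpre y]
      funext e
      exact hev (by rw [← hf, ← hf]; exact congrArg (fun F : M →* Kˣ => F (P e)) h)
    rw [← χ.ker.index_mul_card, Subgroup.index_ker]
    exact Nat.mul_le_mul hχrange (hχker.trans hZbound)
  refine Or.inr ⟨q, a, m, s, finrank (ZMod p) F, Nat.card ψ₀.range, hq, hqp, ha1, hn, Module.finrank_pos,
    Nat.card_pos, hs0u, hsm, hdiv, ?_⟩
  rw [← θ.ker.index_mul_card, Subgroup.index_ker, ← ψ₀.ker.index_mul_card, Subgroup.index_ker, mul_assoc,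
    mul_assoc]
  exact Nat.mul_le_mul hθ (Nat.mul_le_mul_left _ hker0)

/-- the recursion -/
theorem ob_of_table (N : ℕ) (B : ℕ → ℕ) (T : ℕ → ℕ → ℕ)
    (hT : ∀ q a : ℕ, ∀ _ : Fact q.Prime, q ≠ p → 1 ≤ a → q ^ a ≤ N → OI.{v} q (2 * a) (T q a))
    (h0 : 1 ≤ B 0)
    (hprod : ∀ a ≤ N, ∀ b ≤ N, 1 ≤ a → 1 ≤ b → a + b ≤ N → B a * B b ≤ B (a + b))
    (hblk : ∀ t ≤ N, ∀ r ≤ N, 2 ≤ t → 1 ≤ r → t * r ≤ N → B r ^ t * t.factorial ≤ B (t * r))
    (hfld : ∀ n ≤ N, ∀ s ≤ n, 1 ≤ s → s * (p ^ s - 1) ≤ B n)
    (hext : ∀ q a m s0 u : ℕ, q.Prime → q ≠ p → 1 ≤ a → q ^ a * m ≤ N → 1 ≤ s0 → 1 ≤ u → s0 * u ≤ m →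
      q ∣ p ^ s0 - 1 → T q a * u * q ^ (2 * a) * (if s0 * u = m then p ^ m - 1 else B m) ≤ B (q ^ a * m)) :
    ∀ n ≤ N, OB.{v} p n (B n) := by
  intro n
  induction n using Nat.strong_induction_on with
  | _ n ih =>
  intro hnN V _ _ _ hn G hs hss
  subst hn
  by_cases hne : Nontrivial V
  swap
  · haveI := not_nontrivial_iff_subsingleton.1 hne
    haveI : Subsingleton G := ⟨fun g h => Subtype.ext (LinearEquiv.ext fun v => Subsingleton.elim _ _)⟩
    rw [Module.finrank_zero_of_subsingleton, Nat.card_of_subsingleton (1 : G)]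
    exact h0
  have ih' : ∀ m < finrank (ZMod p) V, OB.{v} p m (B m) := fun m hm => ih m hm (hm.le.trans hnN)
  haveI := finite_gl (p := p) (V := V)
  by_cases hi : Irr G
  · obtain ⟨A, ⟨hAn, hA⟩, hmax⟩ := exists_maximal_normal_abelian (G := G)
    haveI := hAn
    rcases field_or_blocks hi A hA with h | ⟨ι, _, W, σ, r, h1, h2, h3, h4, h5, h6⟩
    · rcases field_cases G hs hi B ih' T (fun q a hq hqp ha hle => hT q a hq hqp ha (hle.trans hnN)) A hA hmax h with
        ⟨s, hs1, hsn, hG, hA', -⟩ | ⟨q, a, m, s, s0, u, hq, hqp, ha, hn, hs0, hu, hsu, hsm, hd, hG⟩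
      · have hpos : 0 < p ^ s - 1 := Nat.sub_pos_of_lt (Nat.one_lt_pow (by omega) (Fact.out : p.Prime).one_lt)
        exact hG.trans ((Nat.mul_le_mul_left s (Nat.le_of_dvd hpos hA')).trans (hfld _ hnN s hsn hs1))
      · subst hsu
        refine hG.trans ?_
        rw [hn] at hnN ⊢
        exact hext q a m s0 u hq hqp ha hnN hs0 hu hsm hd
    · obtain ⟨hNs, hWN, hinj⟩ := blocks_embed hi W σ h5 h6
      haveI := hs
      haveI : Group.IsSolvable (σ.ker.map G.subtype : Subgroup _) :=
        Group.isSolvable_of_isSolvable_injective (f := Subgroup.inclusion (Subgroup.map_subtype_le σ.ker))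
          (Subgroup.inclusion_injective _)
      have hker : Nat.card σ.ker ≤ B r ^ Fintype.card ι := by
        refine (Nat.card_le_card_of_injective _ hinj).trans ?_
        rw [Nat.card_pi, ← Finset.card_univ]
        refine Finset.prod_le_pow_card _ _ _ fun i _ => ?_
        exact (OB.res ih' inferInstance hNs (hWN i) (by rw [h4, ← h3]; nlinarith)).trans_eq (by rw [h4])
      have hrange : Nat.card σ.range ≤ (Fintype.card ι).factorial := by
        classical
        refine (Subgroup.card_le_card_group _).trans (le_of_eq ?_)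
        rw [Nat.card_eq_fintype_card, Fintype.card_perm]
      rw [← h3] at hnN ⊢
      refine le_trans ?_ (hblk _ (le_trans (Nat.le_mul_of_pos_right _ h2) hnN) r
        (le_trans (Nat.le_mul_of_pos_left _ (by omega)) hnN) h1 h2 hnN)
      rw [← σ.ker.index_mul_card, Subgroup.index_ker, mul_comm]
      exact Nat.mul_le_mul hker hrange
  · simp only [Irr, not_forall, not_or] at hi
    obtain ⟨W, hW, h0, h1⟩ := hi
    obtain ⟨W', hW', hc⟩ := hss W hW
    have hsum := Submodule.finrank_add_eq_of_isCompl hc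
    obtain ⟨p1, p2⟩ := finrank_prop h0 h1
    have h' : 0 < finrank (ZMod p) W' := by omega
    refine (Nat.card_le_card_of_injective _ (reducible_embed hW hW' hc)).trans ?_
    rw [Nat.card_prod]
    refine (Nat.mul_le_mul (OB.res ih' hs hss hW p2) (OB.res ih' hs hss hW' (by omega))).trans ?_
    rw [← hsum]
    exact hprod _ (by omega) _ (by omega) p1 h' (by omega)

end CfsgLib.Coprime.ClassMod
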