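import Cfsg.Agent.Lib.Coprime.ClassMod.Symplectic

/-!
# A solvable group acting on a finite abelian group with an invariant alternating pairing
-/

set_option autoImplicit false
set_option linter.style.haveILetI false
set_option linter.unusedSectionVars false

namespace CfsgLib.Coprime.ClassMod

open Module CfsgLib.Char CfsgLib.Char.Berger

theorem eq_top_of_killedBy {B : Type*} [CommGroup B] [Finite B]
    (hsq : ∀ p : ℕ, p.Prime → ∀ x : B, x ^ (p ^ 2) = 1 → x ^ p = 1) (S : Subgroup B)
    (h : ∀ p ∈ (Nat.card B).primeFactors, killedBy B p ≤ S) : S = ⊤ := by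
  apply Subgroup.eq_top_of_card_eq
  refine Nat.dvd_antisymm S.card_subgroup_dvd_card ((Nat.dvd_iff_prime_pow_dvd_dvd _ _).2 fun p j hp hd => ?_)
  rcases Nat.eq_zero_or_pos j with rfl | hj
  · simp
  haveI := Fact.mk hp
  obtain ⟨P⟩ : Nonempty (Sylow p B) := inferInstance
  have hPS : (P : Subgroup B) ≤ S := (sylow_eq_killedBy (hsq p hp) P).symm.le.trans
    (h p (Nat.mem_primeFactors.2 ⟨hp, (dvd_pow_self p hj.ne').trans hd, Nat.card_pos.ne'⟩))
  exact (P.pow_dvd_card_of_pow_dvd_card hd).trans (Subgroup.card_dvd_of_le hPS)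

/-- the product of the Sylow subgroups -/
theorem prod_card_killedBy {B : Type*} [CommGroup B] [Finite B]
    (hsq : ∀ p : ℕ, p.Prime → ∀ x : B, x ^ (p ^ 2) = 1 → x ^ p = 1) :
    ∏ p ∈ (Nat.card B).primeFactors, Nat.card (killedBy B p) = Nat.card B := by
  conv_rhs => rw [← Nat.factorization_prod_pow_eq_self (Nat.card_pos (α := B)).ne']
  rw [Nat.prod_factorization_eq_prod_primeFactors]
  refine Finset.prod_congr rfl fun p hp => ?_
  haveI := Fact.mk (Nat.prime_of_mem_primeFactors hp)
  obtain ⟨P⟩ : Nonempty (Sylow p B) := inferInstance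
  rw [sylow_eq_killedBy (hsq p Fact.out) P, P.card_eq_multiplicity]

/-- one prime, with a module structure -/
theorem kc_prime_aux {p : ℕ} [Fact p.Prime] {M : Type} [CommGroup M] [Finite M] [Nontrivial M]
    [Module (ZMod p) (Additive M)] (hexp : ∀ x : M, x ^ p = 1) {Z : Type} [CommGroup Z] [Finite Z]
    (hZ : Nat.card (killedBy Z p) ≤ p) (β : M →* M →* Z) (halt : ∀ x, β x x = 1)
    (hnd : ∀ x, (∀ y, β x y = 1) → x = 1) {G : Type} [Group G] [Finite G] [Group.IsSolvable G]
    (act : G →* MulAut M) (hinv : ∀ g x y, β (act g x) (act g y) = β x y)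
    (hiso : ∀ U : Subgroup M, (∀ g, ∀ u ∈ U, act g u ∈ U) → (∀ u ∈ U, ∀ v ∈ U, β u v = 1) → U = ⊥) :
    ∃ m, Nat.card M = p ^ (2 * m) ∧ KC act.range (3 ^ (p ^ m - 1)) := by
  classical
  obtain ⟨m, hm⟩ := exists_card_eq_pow_two_mul_of_pairing hZ _ M rfl hexp β halt hnd
  refine ⟨m, hm, ?_⟩
  haveI : Finite (Additive M) := Finite.of_equiv M Additive.ofMul
  have hm1 : 1 ≤ m := by
    by_contra h
    have h1 : Nat.card M = 1 := by rw [hm, show m = 0 by omega]; norm_num
    exact absurd h1 (Finite.one_lt_card (α := M)).ne'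
  have hd : finrank (ZMod p) (Additive M) = 2 * m := by
    refine Nat.pow_right_injective (Fact.out : p.Prime).two_le ?_
    show p ^ finrank (ZMod p) (Additive M) = p ^ (2 * m)
    rw [← hm, Nat.card_congr (Additive.ofMul (α := M)), Module.natCard_eq_pow_finrank (K := ZMod p) (V := Additive M),
      Nat.card_zmod]
  -- the values of the pairing
  have hval : ∀ x y, β x y ∈ killedBy Z p := fun x y => mem_killedBy.2 (by rw [← map_pow, hexp, map_one])
  have hcard : Nat.card (killedBy Z p) = p := by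
    refine le_antisymm hZ ?_
    obtain ⟨x, hx⟩ := exists_ne (1 : M)
    obtain ⟨y, hy⟩ : ∃ y, β x y ≠ 1 := by
      by_contra! h
      exact hx (hnd x h)
    have h1 : orderOf (⟨β x y, hval x y⟩ : killedBy Z p) = p :=
      orderOf_eq_prime (Subtype.ext (mem_killedBy.1 (hval x y))) fun h => hy (congrArg Subtype.val h)
    refine Nat.le_of_dvd Nat.card_pos ?_
    conv_lhs => rw [← h1]
    exact orderOf_dvd_natCard _
  haveI : IsCyclic (killedBy Z p) := isCyclic_of_prime_card hcard
  let e : killedBy Z p ≃* Multiplicative (ZMod p) :=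
    mulEquivOfCyclicCardEq (by rw [hcard, Nat.card_congr Multiplicative.toAdd, Nat.card_zmod])
  let b0 : Additive M → Additive M → ZMod p := fun u v => (e ⟨β u.toMul v.toMul, hval _ _⟩).toAdd
  have hb0l : ∀ u u' v, b0 (u + u') v = b0 u v + b0 u' v := fun u u' v => by
    show (e _).toAdd = (e _).toAdd + (e _).toAdd
    rw [← toAdd_mul, ← map_mul]
    congr 2
    exact Subtype.ext (by simp)
  have hb0r : ∀ u v v', b0 u (v + v') = b0 u v + b0 u v' := fun u v v' => by
    show (e _).toAdd = (e _).toAdd + (e _).toAdd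
    rw [← toAdd_mul, ← map_mul]
    congr 2
    exact Subtype.ext (map_mul _ _ _)
  let bl : Additive M → (Additive M →ₗ[ZMod p] ZMod p) := fun u =>
    (AddMonoidHom.mk' (b0 u) (hb0r u)).toZModLinearMap p
  let bb : Additive M →ₗ[ZMod p] (Additive M →ₗ[ZMod p] ZMod p) :=
    (AddMonoidHom.mk' bl fun u u' => LinearMap.ext fun v => hb0l u u' v).toZModLinearMap p
  have hbb : ∀ u v, bb u v = b0 u v := fun u v => rfl
  have hzero : ∀ u v, bb u v = 0 ↔ β u.toMul v.toMul = 1 := by
    intro u v
    constructor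
    · intro h
      have h2 : (⟨β u.toMul v.toMul, hval _ _⟩ : killedBy Z p) = 1 :=
        e.injective ((Multiplicative.toAdd.injective (h : (e _).toAdd = (1 : Multiplicative (ZMod p)).toAdd)).trans
          (map_one e).symm)
      exact congrArg Subtype.val h2
    · intro h
      show (e _).toAdd = 0
      rw [show (⟨β u.toMul v.toMul, hval _ _⟩ : killedBy Z p) = 1 from Subtype.ext h, map_one]
      rfl
  let L : G →* (Additive M ≃ₗ[ZMod p] Additive M) := (toLin p M).comp act
  haveI : Group.IsSolvable L.range := Group.isSolvable_of_surjective L.rangeRestrict_surjective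
  have hker : L.ker = act.ker := by
    ext h
    refine ⟨fun hh => MulEquiv.ext fun x => ?_, fun hh => ?_⟩
    · exact congrArg Additive.toMul (DFunLike.congr_fun hh (Additive.ofMul x))
    · rw [MonoidHom.mem_ker, MonoidHom.comp_apply, MonoidHom.mem_ker.1 hh, map_one]
  haveI := finite_gl (p := p) (V := Additive M)
  refine KC.of_surjective
    (((QuotientGroup.quotientKerEquivRange act).toMonoidHom.comp
      (QuotientGroup.quotientMulEquivOfEq hker).toMonoidHom).comp (QuotientGroup.quotientKerEquivRange L).symm.toMonoidHom)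
    (((QuotientGroup.quotientKerEquivRange act).surjective.comp
      (QuotientGroup.quotientMulEquivOfEq hker).surjective).comp (QuotientGroup.quotientKerEquivRange L).symm.surjective)
    (kc_symplectic bb (fun u => (hzero u u).2 (halt _)) ?_ hm1 hd L.range ?_ inferInstance ?_)
  · intro u hu
    exact Additive.toMul.injective (hnd u.toMul fun y => (hzero u (Additive.ofMul y)).1 (hu _))
  · rintro _ ⟨g, rfl⟩ u v
    show (e _).toAdd = (e _).toAdd
    congr 2
    exact Subtype.ext (hinv g u.toMul v.toMul)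
  · intro W hW hW0
    let U : Subgroup M :=
      { carrier := {x | Additive.ofMul x ∈ W}
        one_mem' := zero_mem W
        mul_mem' := fun {a b} ha hb => add_mem (s := W) ha hb
        inv_mem' := fun {a} ha => neg_mem (s := W) ha }
    have hU := hiso U (fun g u hu => hW _ ⟨g, rfl⟩ _ hu) fun u hu v hv => (hzero _ _).1 (hW0 _ hu _ hv)
    refine (Submodule.eq_bot_iff W).2 fun w hw => ?_
    have hmem : w.toMul ∈ U := hw
    rw [hU, Subgroup.mem_bot] at hmem
    exact congrArg Additive.ofMul hmem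

theorem kc_prime {p : ℕ} [Fact p.Prime] {M : Type} [CommGroup M] [Finite M] [Nontrivial M]
    (hexp : ∀ x : M, x ^ p = 1) {Z : Type} [CommGroup Z] [Finite Z]
    (hZ : Nat.card (killedBy Z p) ≤ p) (β : M →* M →* Z) (halt : ∀ x, β x x = 1)
    (hnd : ∀ x, (∀ y, β x y = 1) → x = 1) {G : Type} [Group G] [Finite G] [Group.IsSolvable G]
    (act : G →* MulAut M) (hinv : ∀ g x y, β (act g x) (act g y) = β x y)
    (hiso : ∀ U : Subgroup M, (∀ g, ∀ u ∈ U, act g u ∈ U) → (∀ u ∈ U, ∀ v ∈ U, β u v = 1) → U = ⊥) :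
    ∃ m, Nat.card M = p ^ (2 * m) ∧ KC act.range (3 ^ (p ^ m - 1)) :=
  @kc_prime_aux p _ M _ _ _ (AddCommGroup.zmodModule fun a => congrArg Additive.ofMul (hexp a.toMul))
    hexp Z _ _ hZ β halt hnd G _ _ _ act hinv hiso

theorem sum_sub_one_succ_le {ι : Type*} (s : Finset ι) (f : ι → ℕ) (hf : ∀ i ∈ s, 1 ≤ f i) :
    ∑ i ∈ s, (f i - 1) + 1 ≤ ∏ i ∈ s, f i := by
  classical
  induction s using Finset.induction_on with
  | empty => simp
  | @insert a s ha ih =>
    have h1 := ih fun i hi => hf i (Finset.mem_insert_of_mem hi)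
    obtain ⟨k, hk⟩ := Nat.exists_eq_add_of_le (hf a (Finset.mem_insert_self a s))
    rw [Finset.sum_insert ha, Finset.prod_insert ha, hk, Nat.add_sub_cancel_left, add_mul, one_mul]
    have h2 : k ≤ k * ∏ i ∈ s, f i := Nat.le_mul_of_pos_right _ (Finset.prod_pos fun i hi => hf i (Finset.mem_insert_of_mem hi))
    omega

/-- **all primes together** -/
theorem kc_pairing {E : Type} [CommGroup E] [Finite E]
    (hsq : ∀ p : ℕ, p.Prime → ∀ x : E, x ^ (p ^ 2) = 1 → x ^ p = 1) {Z : Type} [CommGroup Z] [Finite Z]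
    (hZ : ∀ p : ℕ, p.Prime → Nat.card (killedBy Z p) ≤ p) (β : E →* E →* Z) (halt : ∀ x, β x x = 1)
    (hnd : ∀ x, (∀ y, β x y = 1) → x = 1) {G : Type} [Group G] [Finite G] [Group.IsSolvable G]
    (act : G →* MulAut E) (hinv : ∀ g x y, β (act g x) (act g y) = β x y)
    (hiso : ∀ U : Subgroup E, (∀ g, ∀ u ∈ U, act g u ∈ U) → (∀ u ∈ U, ∀ v ∈ U, β u v = 1) → U = ⊥)
    {r : ℕ} (hr : Nat.card E ≤ r ^ 2) : KC act.range (3 ^ (r - 1)) := by
  classical
  set s := (Nat.card E).primeFactors with hs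
  let actp : ∀ p : s, G →* MulAut (killedBy E (p : ℕ)) := fun p => (restrictKilledBy E (p : ℕ)).comp act
  have hone : ∀ p : s, ∃ m, Nat.card (killedBy E (p : ℕ)) = (p : ℕ) ^ (2 * m) ∧
      KC (actp p).range (3 ^ ((p : ℕ) ^ m - 1)) := by
    intro p
    haveI := Fact.mk (Nat.prime_of_mem_primeFactors p.2)
    obtain ⟨x, hx⟩ := exists_prime_orderOf_dvd_card' (G := E) (p : ℕ) (Nat.dvd_of_mem_primeFactors p.2)
    haveI : Nontrivial (killedBy E (p : ℕ)) := ⟨⟨⟨x, mem_killedBy.2 (by rw [← hx, pow_orderOf_eq_one])⟩, 1, fun h => by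
      have h1 : x = 1 := congrArg Subtype.val h
      rw [h1, orderOf_one] at hx
      exact (Fact.out : (p : ℕ).Prime).ne_one hx.symm⟩⟩
    let β' : killedBy E (p : ℕ) →* killedBy E (p : ℕ) →* Z :=
      MonoidHom.mk' (fun a => (β (a : E)).comp (killedBy E (p : ℕ)).subtype) fun a b => by ext c; simp
    refine kc_prime (fun x => Subtype.ext (mem_killedBy.1 x.2)) (hZ p Fact.out) β' (fun x => halt x) ?_
      (actp p) (fun g x y => hinv g x y) ?_
    · intro x hx
      refine Subtype.ext (hnd x fun y => ?_)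
      have htop : (β (x : E)).ker = ⊤ := eq_top_of_killedBy hsq _ fun q hq z hz => by
        rcases eq_or_ne q (p : ℕ) with rfl | hne
        · exact hx ⟨z, hz⟩
        · refine MonoidHom.mem_ker.2 (orderOf_eq_one_iff.1 (Nat.eq_one_of_dvd_coprimes
            ((Nat.coprime_primes (Nat.prime_of_mem_primeFactors hq) Fact.out).2 hne) ?_ ?_))
          · exact orderOf_dvd_of_pow_eq_one (by rw [← map_pow, mem_killedBy.1 hz, map_one])
          · refine orderOf_dvd_of_pow_eq_one ?_
            rw [← MonoidHom.pow_apply, ← map_pow, mem_killedBy.1 x.2, map_one, MonoidHom.one_apply]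
      exact MonoidHom.mem_ker.1 (htop ▸ Subgroup.mem_top y)
    · intro U hU hU0
      have h := hiso (U.map (killedBy E (p : ℕ)).subtype) (by
        rintro g _ ⟨u, hu, rfl⟩
        exact ⟨actp p g u, hU g u hu, rfl⟩) (by
        rintro _ ⟨u, hu, rfl⟩ _ ⟨v, hv, rfl⟩
        exact hU0 u hu v hv)
      exact (Subgroup.map_eq_bot_iff_of_injective _ (killedBy E (p : ℕ)).subtype_injective).1 h
  choose m hm hk using hone
  let Φ : act.range →* ∀ p : s, (actp p).range :=
    Pi.monoidHom fun p => ((restrictKilledBy E (p : ℕ)).comp act.range.subtype).codRestrict _ fun x => by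
      obtain ⟨g, hg⟩ := x.2
      exact ⟨g, by show restrictKilledBy E (p : ℕ) (act g) = _; rw [hg]; rfl⟩
  have hΦ : Function.Injective Φ := (injective_iff_map_eq_one Φ).2 fun x hx => by
    have htop : MonoidHom.eqLocus (x : MulAut E).toMonoidHom (MonoidHom.id E) = ⊤ :=
      eq_top_of_killedBy hsq _ fun q hq z hz =>
        (congrArg Subtype.val (DFunLike.congr_fun (congrArg Subtype.val (congrFun hx ⟨q, hq⟩))
          (⟨z, hz⟩ : killedBy E q)) :)
    exact Subtype.ext (MulEquiv.ext fun z => (show z ∈ MonoidHom.eqLocus (x : MulAut E).toMonoidHom (MonoidHom.id E)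
      from htop ▸ Subgroup.mem_top z))
  refine (KC.of_injective Φ hΦ (KC.pi _ hk)).mono ?_
  rw [Finset.prod_pow_eq_pow_sum]
  refine Nat.pow_le_pow_right (by norm_num) ?_
  have h1 := sum_sub_one_succ_le Finset.univ (fun p : s => (p : ℕ) ^ m p)
    fun p _ => Nat.one_le_pow _ _ (Nat.prime_of_mem_primeFactors p.2).pos
  have h2 : ∏ p : s, (p : ℕ) ^ m p ≤ r := by
    refine (Nat.pow_le_pow_iff_left (show (2 : ℕ) ≠ 0 by norm_num)).1 (le_trans (le_of_eq ?_) hr)
    rw [← prod_card_killedBy hsq, ← hs, ← Finset.prod_coe_sort s (fun p => Nat.card (killedBy E p)), ← Finset.prod_pow]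
    exact Finset.prod_congr rfl fun p _ => by rw [hm p, ← pow_mul, mul_comm]
  omega

end CfsgLib.Coprime.ClassMod
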