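import Cfsg.Agent.Lib.Coprime.ClassMod.Scalar
import Cfsg.Agent.Lib.Coprime.ClassMod.Pairing

/-!
# Classes of solvable complex linear groups modulo the Fitting subgroup
-/

set_option autoImplicit false
set_option linter.style.haveILetI false
set_option linter.unusedSectionVars false

namespace CfsgLib.Coprime.ClassMod

open Module CfsgLib.Char
open scoped commutatorElement

variable {G V : Type} [Group G] [Finite G] [AddCommGroup V] [Module ℂ V] [FiniteDimensional ℂ V]

theorem kc_of_allScalar (ρ : G →* (V ≃ₗ[ℂ] V)) (hρ : Function.Injective ρ) (hs : Group.IsSolvable G)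
    (hall : AllScalar ρ) (hr : 0 < finrank ℂ V) [hFn : (Cfsg.fittingSubgroup G).Normal] :
    KC (G ⧸ Cfsg.fittingSubgroup G) (3 ^ (finrank ℂ V - 1)) := by
  classical
  haveI := hs
  haveI : Nontrivial V := Module.nontrivial_of_finrank_pos hr
  obtain ⟨v₀, hv₀⟩ := exists_ne (0 : V)
  have hZn := scalars_normal ρ hρ
  letI : CommGroup (scalars ρ) := { (inferInstance : Group (scalars ρ)) with
    mul_comm := fun x y => Subtype.ext (scalar_comm ρ hρ x.2 y) }
  -- the scalar as a unit
  have hsc : ∀ z : scalars ρ, ∃ c : ℂ, ∀ v, ρ z v = c • v := fun z => z.2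
  choose cs hcs using hsc
  let sv : scalars ρ →* ℂˣ := MonoidHom.toHomUnits
    { toFun := cs
      map_one' := scalar_eq_of_ne _ _ hv₀ (by rw [← hcs, one_smul, OneMemClass.coe_one, map_one]; rfl)
      map_mul' := fun a b => scalar_eq_of_ne _ _ hv₀ (by
        rw [← hcs, Subgroup.coe_mul, map_mul, LinearEquiv.mul_apply, hcs b, map_smul, hcs a, smul_smul, mul_comm]) }
  have hsv : ∀ (z : scalars ρ) v, ρ z v = ((sv z : ℂˣ) : ℂ) • v := fun z v => hcs z v
  have hsvinj : Function.Injective sv := fun a b h => Subtype.ext (hρ (LinearEquiv.ext fun v => by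
    rw [hsv, hsv, h]))
  haveI : IsCyclic (scalars ρ) := isCyclic_of_subgroup_isDomain ((Units.coeHom ℂ).comp sv)
    (Units.val_injective.comp hsvinj)
  have hZk : ∀ p : ℕ, p.Prime → Nat.card (killedBy (scalars ρ) p) ≤ p := by
    intro p hp
    letI := Fintype.ofFinite (scalars ρ)
    rw [Nat.card_eq_fintype_card, Fintype.card_of_subtype (Finset.univ.filter fun x : scalars ρ => x ^ p = 1)
      (fun x => by simp [mem_killedBy])]
    exact IsCyclic.card_pow_eq_one_le hp.pos
  set F := Cfsg.fittingSubgroup G with hF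
  have hZF : scalars ρ ≤ F := scalars_le_fitting hρ
  set Z := (scalars ρ).subgroupOf F with hZ
  -- the commutator pairing
  let b : F → F → scalars ρ := fun x y => ⟨⁅(x : G), (y : G)⁆, fitting_commutator_scalar ρ hρ hall x.2 y.2⟩
  have hbl : ∀ x x' y, b (x * x') y = b x y * b x' y := fun x x' y => Subtype.ext
    (commutatorElement_mul_left_of_central (scalar_comm ρ hρ (b x' y).2 x).symm
      (scalar_comm ρ hρ (b x y).2 _))
  have hbr : ∀ x y y', b x (y * y') = b x y * b x y' := fun x y y' => Subtype.ext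
    (commutatorElement_mul_right_of_central (scalar_comm ρ hρ (b x y').2 y).symm)
  have hbz : ∀ x ∈ Z, ∀ y, b x y = 1 ∧ b y x = 1 := fun x hx y =>
    ⟨Subtype.ext (commutatorElement_eq_one_iff_mul_comm.2 (scalar_comm ρ hρ hx y)),
      Subtype.ext (commutatorElement_eq_one_iff_mul_comm.2 (scalar_comm ρ hρ hx y).symm)⟩
  haveI hZnF : Z.Normal := Subgroup.Normal.subgroupOf hZn F
  letI : CommGroup (F ⧸ Z) := { (inferInstance : Group (F ⧸ Z)) with
    mul_comm := fun q q' => by
      induction q using QuotientGroup.induction_on with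
      | H x =>
        induction q' using QuotientGroup.induction_on with
        | H y =>
          refine commutatorElement_eq_one_iff_mul_comm.1 ?_
          show ⁅QuotientGroup.mk' Z x, QuotientGroup.mk' Z y⁆ = 1
          rw [← map_commutatorElement, QuotientGroup.mk'_apply, QuotientGroup.eq_one_iff]
          exact fitting_commutator_scalar ρ hρ hall x.2 y.2 }
  let bF : F →* F →* scalars ρ := MonoidHom.mk' (fun x => MonoidHom.mk' (b x) (hbr x))
    fun x x' => MonoidHom.ext fun y => hbl x x' y
  let β0 : ∀ x : F, (F ⧸ Z) →* scalars ρ := fun x =>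
    QuotientGroup.lift Z (bF x) fun y hy => MonoidHom.mem_ker.2 (hbz y hy x).2
  let β1 : F →* ((F ⧸ Z) →* scalars ρ) := MonoidHom.mk' β0 fun x x' => MonoidHom.ext fun q => by
    induction q using QuotientGroup.induction_on with
    | H y => exact hbl x x' y
  let β : (F ⧸ Z) →* (F ⧸ Z) →* scalars ρ := QuotientGroup.lift Z β1 fun x hx => MonoidHom.mem_ker.2
    (MonoidHom.ext fun q => by
      induction q using QuotientGroup.induction_on with
      | H y => exact (hbz x hx y).1)
  have hβ : ∀ x y : F, β (x : F ⧸ Z) (y : F ⧸ Z) = b x y := fun x y => rfl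
  have hcommb : ∀ x y : F, b x y = 1 → (x : G) * y = y * x := fun x y h =>
    commutatorElement_eq_one_iff_mul_comm.1 (congrArg Subtype.val h)
  have halt : ∀ q, β q q = 1 := fun q => by
    induction q using QuotientGroup.induction_on with
    | H x => rw [hβ]; exact Subtype.ext (commutatorElement_self (x : G))
  have hnd : ∀ q, (∀ q', β q q' = 1) → q = 1 := fun q h => by
    induction q using QuotientGroup.induction_on with
    | H x =>
      exact (QuotientGroup.eq_one_iff x).2 (scalar_of_central hall x.2 fun y hy =>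
        hcommb x ⟨y, hy⟩ (by rw [← hβ]; exact h _))
  -- the action
  let act : G →* MulAut (F ⧸ Z) :=
    { toFun := fun g => QuotientGroup.congr Z Z (MulAut.conjNormal g : MulAut F) (by
        refine le_antisymm ?_ ?_
        · rintro _ ⟨x, hx, rfl⟩
          exact hZn.conj_mem _ hx g
        · intro x hx
          refine ⟨(MulAut.conjNormal g : MulAut F).symm x, ?_, MulEquiv.apply_symm_apply _ _⟩
          show ((MulAut.conjNormal g : MulAut F).symm x : G) ∈ scalars ρ
          rw [MulAut.conjNormal_symm_apply]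
          simpa using hZn.conj_mem _ hx g⁻¹)
      map_one' := MulEquiv.ext fun q => by
        induction q using QuotientGroup.induction_on with
        | H x => exact congrArg QuotientGroup.mk (Subtype.ext (by simp))
      map_mul' := fun g h => MulEquiv.ext fun q => by
        induction q using QuotientGroup.induction_on with
        | H x => exact congrArg QuotientGroup.mk (Subtype.ext (by simp [mul_assoc])) }
  have hact : ∀ (g : G) (x : F), act g (x : F ⧸ Z) = ((MulAut.conjNormal g : MulAut F) x : F ⧸ Z) := fun g x => rfl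
  have hinv : ∀ g q q', β (act g q) (act g q') = β q q' := fun g q q' => by
    induction q using QuotientGroup.induction_on with
    | H x =>
      induction q' using QuotientGroup.induction_on with
      | H y =>
        rw [hact, hact, hβ, hβ]
        refine Subtype.ext ?_
        show ⁅((MulAut.conjNormal g : MulAut F) x : G), ((MulAut.conjNormal g : MulAut F) y : G)⁆ = ⁅(x : G), (y : G)⁆
        rw [MulAut.conjNormal_apply, MulAut.conjNormal_apply,
          show ⁅g * (x : G) * g⁻¹, g * (y : G) * g⁻¹⁆ = g * ⁅(x : G), (y : G)⁆ * g⁻¹ by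
            simp only [commutatorElement_def]; group,
          ← scalar_comm ρ hρ (b x y).2 g, mul_inv_cancel_right]
  have hiso : ∀ U : Subgroup (F ⧸ Z), (∀ g, ∀ u ∈ U, act g u ∈ U) → (∀ u ∈ U, ∀ v ∈ U, β u v = 1) → U = ⊥ := by
    intro U hU hU0
    have hn : ((U.comap (QuotientGroup.mk' Z)).map F.subtype).Normal := ⟨by
      rintro _ ⟨x, hx, rfl⟩ g
      exact ⟨(MulAut.conjNormal g : MulAut F) x, hU g _ hx, MulAut.conjNormal_apply g x⟩⟩
    refine (Subgroup.eq_bot_iff_forall U).2 fun q hq => ?_
    induction q using QuotientGroup.induction_on with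
    | H x =>
      refine (QuotientGroup.eq_one_iff x).2 (hall _ hn ?_ x ⟨x, hq, rfl⟩)
      rintro _ ⟨u, hu, rfl⟩ _ ⟨v, hv, rfl⟩
      exact hcommb u v (by rw [← hβ]; exact hU0 _ hu _ hv)
  -- elementary abelian Sylow subgroups
  have hsq : ∀ p : ℕ, p.Prime → ∀ q : F ⧸ Z, q ^ (p ^ 2) = 1 → q ^ p = 1 := by
    intro p _ q hq
    let U : Subgroup (F ⧸ Z) := (killedBy (F ⧸ Z) (p ^ 2)).map (powMonoidHom p)
    have h := hiso U (by
      rintro g _ ⟨w, hw, rfl⟩
      refine ⟨act g w, mem_killedBy.2 (by rw [← map_pow, mem_killedBy.1 hw, map_one]), ?_⟩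
      simp) (by
      rintro _ ⟨w, hw, rfl⟩ _ ⟨w', hw', rfl⟩
      simp only [powMonoidHom_apply]
      rw [map_pow (β (w ^ p)), map_pow β, MonoidHom.pow_apply, ← pow_mul, ← sq, ← MonoidHom.pow_apply, ← map_pow β,
        mem_killedBy.1 hw, map_one, MonoidHom.one_apply])
    have h1 : q ^ p ∈ U := ⟨q, mem_killedBy.2 hq, rfl⟩
    rwa [h, Subgroup.mem_bot] at h1
  haveI : HasEnoughRootsOfUnity ℂ (Monoid.exponent (F ⧸ Z)) := by
    haveI : NeZero (Monoid.exponent (F ⧸ Z)) := ⟨Monoid.exponent_ne_zero_of_finite⟩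
    infer_instance
  -- the kernel
  have hkerF : ∀ g ∈ act.ker, g ∈ F := by
    intro g hg
    have hd : ∀ x : F, ⁅g, (x : G)⁆ ∈ scalars ρ := fun x => by
      have h := DFunLike.congr_fun (MonoidHom.mem_ker.1 hg) (x : F ⧸ Z)
      rw [hact] at h
      have h2 : (((MulAut.conjNormal g : MulAut F) x)⁻¹ * x : F) ∈ Z := QuotientGroup.eq.1 h
      have h3 := hZn.conj_mem _ ((scalars ρ).inv_mem h2) (x : G)
      simpa [commutatorElement_def, mul_assoc] using h3
    let lam0 : F →* ℂˣ := MonoidHom.mk' (fun x => sv ⟨⁅g, (x : G)⁆, hd x⟩) fun x y => by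
      rw [← map_mul]
      exact congrArg sv (Subtype.ext (commutatorElement_mul_right_of_central (scalar_comm ρ hρ (hd y) x).symm))
    let lam : (F ⧸ Z) →* ℂˣ := QuotientGroup.lift Z lam0 fun z hz => MonoidHom.mem_ker.2 (by
      show sv ⟨⁅g, (z : G)⁆, hd z⟩ = 1
      rw [show (⟨⁅g, (z : G)⁆, hd z⟩ : scalars ρ) = 1 from
        Subtype.ext (commutatorElement_eq_one_iff_mul_comm.2 (scalar_comm ρ hρ hz g).symm), map_one])
    let Ξ : (F ⧸ Z) → ((F ⧸ Z) →* ℂˣ) := fun q => sv.comp (β q)
    have hΞ : Function.Injective Ξ := fun q q' h => by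
      refine inv_mul_eq_one.1 (hnd _ fun q'' => ?_)
      have h1 : β q q'' = β q' q'' := hsvinj (DFunLike.congr_fun h q'')
      rw [map_mul, MonoidHom.mul_apply, map_inv, MonoidHom.inv_apply, h1, inv_mul_cancel]
    haveI : Finite ((F ⧸ Z) →* ℂˣ) := Nat.finite_of_card_ne_zero (by
      rw [CommGroup.card_monoidHom_of_hasEnoughRootsOfUnity]; exact Nat.card_pos.ne')
    obtain ⟨q, hq⟩ := ((Nat.bijective_iff_injective_and_card Ξ).2
      ⟨hΞ, (CommGroup.card_monoidHom_of_hasEnoughRootsOfUnity _ _).symm⟩).2 lam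
    obtain ⟨y, rfl⟩ := QuotientGroup.mk'_surjective Z q
    have hy : ∀ x : F, ⁅(y : G), (x : G)⁆ = ⁅g, (x : G)⁆ := fun x =>
      congrArg Subtype.val (hsvinj (DFunLike.congr_fun hq (x : F ⧸ Z)))
    have hc : (y : G)⁻¹ * g ∈ Subgroup.centralizer (F : Set G) := by
      refine Subgroup.mem_centralizer_iff.2 fun x hx => ?_
      have h := hy ⟨x, hx⟩
      simp only [commutatorElement_def] at h
      calc x * ((y : G)⁻¹ * g) = (y : G)⁻¹ * ((y : G) * x * (y : G)⁻¹ * x⁻¹) * x * g := by group
        _ = (y : G)⁻¹ * (g * x * g⁻¹ * x⁻¹) * x * g := by rw [h]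
        _ = (y : G)⁻¹ * g * x := by group
    have h2 : (y : G)⁻¹ * g ∈ F := CfsgLib.Coprime.centralizer_fitting_le hc
    have h3 := F.mul_mem y.2 h2
    rwa [mul_inv_cancel_left] at h3
  have hcard : Nat.card (F ⧸ Z) ≤ finrank ℂ V ^ 2 := card_fitting_cosets_le hρ hall hr
  have hk := kc_pairing (E := F ⧸ Z) hsq hZk β halt hnd act hinv hiso hcard
  refine KC.of_surjective (QuotientGroup.map act.ker F (MonoidHom.id G) hkerF) ?_
    (KC.of_injective (QuotientGroup.quotientKerEquivRange act).toMonoidHom
      (QuotientGroup.quotientKerEquivRange act).injective hk)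
  intro q
  induction q using QuotientGroup.induction_on with
  | H x => exact ⟨QuotientGroup.mk x, rfl⟩

/-- **the theorem** -/
theorem linBound : ∀ r, LinBound r := by
  intro r
  induction r using Nat.strong_induction_on with
  | _ r ih =>
  intro G V _ _ _ _ _ ρ hρ hs hr _
  subst hr
  by_cases hall : AllScalar ρ
  · rcases Nat.eq_zero_or_pos (finrank ℂ V) with h0 | hpos
    · haveI : Subsingleton V := Module.finrank_zero_iff.1 h0
      haveI : Subsingleton G := ⟨fun a b => hρ (LinearEquiv.ext fun v => Subsingleton.elim _ _)⟩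
      refine KC.of_card ((Nat.card_le_card_of_surjective _ (QuotientGroup.mk'_surjective _)).trans ?_)
      rw [Nat.card_of_subsingleton (1 : G)]
      exact Nat.one_le_pow _ _ (by norm_num)
    · exact kc_of_allScalar ρ hρ hs hall hpos
  · simp only [AllScalar, not_forall] at hall
    obtain ⟨A, hAn, hA, a, ha, hns⟩ := hall
    haveI := hAn
    exact kc_of_nonscalar ρ hρ hs ih A hA ⟨a, ha, hns⟩

end CfsgLib.Coprime.ClassMod
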