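import Cfsg.Agent.Lib.Coprime.ClassMod.Arith
import Cfsg.Agent.Lib.Char.TransLinear.Structure
import Cfsg.Agent.Lib.Char.TransLinear.AutCard

/-!
# Solvable permutation groups of degree `n` have order at most `3 ^ (n - 1)`
-/

set_option autoImplicit false
set_option linter.style.haveILetI false

namespace CfsgLib.Coprime.ClassMod

open MulAction CfsgLib.Char

universe u

/-- the bound for one degree -/
def PermBound (n : ℕ) : Prop :=
  ∀ (G Ω : Type u) [Group G] [Finite G] [Finite Ω] [MulAction G Ω] [FaithfulSMul G Ω],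
    Group.IsSolvable G → Nat.card Ω = n → Nat.card G ≤ 3 ^ (n - 1)

theorem card_le_three_pow {n : ℕ} (ih : ∀ m < n, PermBound.{u} m) (Ω : Type u) [Finite Ω]
    (G : Subgroup (Equiv.Perm Ω)) [Group.IsSolvable G] (h : Nat.card Ω < n) :
    Nat.card G ≤ 3 ^ (Nat.card Ω - 1) := by
  haveI : FaithfulSMul G Ω := ⟨fun {a b} hab => Subtype.ext (Equiv.ext hab)⟩
  exact ih _ h G Ω inferInstance rfl

theorem permBound : ∀ n, PermBound.{u} n := by
  intro n
  induction n using Nat.strong_induction_on with
  | _ n ih =>
  intro G Ω _ _ _ _ _ hs hn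
  subst hn
  classical
  haveI := hs
  haveI := Fintype.ofFinite Ω
  rcases subsingleton_or_nontrivial G with hG | hG
  · rw [Nat.card_of_subsingleton (1 : G)]
    exact Nat.one_le_pow _ _ (by norm_num)
  obtain ⟨q, N, hq, hNn, -, hN0, hNc, hNe⟩ :=
    exists_normal_elementary_sub (G := G) (D := ⊤) (by
      intro h
      obtain ⟨g, hg⟩ := exists_ne (1 : G)
      exact hg ((Subgroup.eq_bot_iff_forall _).1 h g (Subgroup.mem_top g)))
  haveI := hNn
  haveI : Fact q.Prime := ⟨hq⟩
  let O := MulAction.orbitRel.Quotient N Ω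
  haveI : Finite O := Quotient.finite _
  letI := Fintype.ofFinite O
  have hwd : ∀ (g : G) (x y : Ω), (MulAction.orbitRel N Ω) x y → (MulAction.orbitRel N Ω) (g • x) (g • y) := by
    intro g x y hxy
    obtain ⟨k, hk⟩ := MulAction.orbitRel_apply.1 hxy
    refine MulAction.orbitRel_apply.2 ⟨⟨g * k * g⁻¹, hNn.conj_mem _ k.2 g⟩, ?_⟩
    show (g * (k : G) * g⁻¹) • g • y = g • x
    rw [← hk, smul_smul, inv_mul_cancel_right, mul_smul]
    rfl
  letI actO : MulAction G O :=
    { smul := fun g => Quotient.map' (fun x => g • x) (hwd g)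
      one_smul := fun o => by
        induction o using Quotient.inductionOn' with
        | _ x => exact congrArg Quotient.mk'' (one_smul G x)
      mul_smul := fun g h o => by
        induction o using Quotient.inductionOn' with
        | _ x => exact congrArg Quotient.mk'' (mul_smul g h x) }
  have hsmul : ∀ (g : G) (x : Ω), g • (Quotient.mk'' x : O) = Quotient.mk'' (g • x) := fun g x => rfl
  set σ := MulAction.toPermHom G O with hσ
  let π : Ω → O := Quotient.mk''
  have hπsurj : Function.Surjective π := Quotient.mk''_surjective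
  by_cases hone : Nat.card O ≤ 1
  · -- a transitive, hence regular, abelian normal subgroup
    haveI : Subsingleton O := (Finite.card_le_one_iff_subsingleton).1 hone
    rcases isEmpty_or_nonempty Ω with hΩ | hΩ
    · exact absurd (FaithfulSMul.eq_of_smul_eq_smul (α := Ω) fun x => isEmptyElim x)
        (exists_pair_ne G).choose_spec.choose_spec
    obtain ⟨x₀⟩ := hΩ
    have htr : ∀ x : Ω, ∃ k : N, k • x₀ = x := fun x =>
      MulAction.orbitRel_apply.1 (Quotient.eq''.1 (Subsingleton.elim (π x) (π x₀)))
    have hfree : ∀ g : G, (∀ k ∈ N, g * k = k * g) → g • x₀ = x₀ → g = 1 := fun g hg hx =>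
      FaithfulSMul.eq_of_smul_eq_smul fun x : Ω => by
        obtain ⟨k, rfl⟩ := htr x
        show g • (k : G) • x₀ = (1 : G) • (k : G) • x₀
        rw [smul_smul, hg _ k.2, mul_smul, hx, one_smul]
    have hbij : Function.Bijective fun k : N => k • x₀ := by
      refine ⟨fun a b hab => ?_, htr⟩
      have hab' : (a : G) • x₀ = (b : G) • x₀ := hab
      refine Subtype.ext (inv_mul_eq_one.1 (hfree ((b : G)⁻¹ * (a : G)) (fun k hk => ?_) ?_)).symm
      · exact hNc _ (mul_mem (inv_mem b.2) a.2) _ hk
      · rw [mul_smul, hab', inv_smul_smul]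
    have hNcard : Nat.card N = Nat.card Ω := Nat.card_eq_of_bijective _ hbij
    haveI : Nontrivial N := (Subgroup.nontrivial_iff_ne_bot N).2 hN0
    obtain ⟨d, hd⟩ : ∃ d, Nat.card N = q ^ d :=
      IsPGroup.iff_card.1 fun x => ⟨1, Subtype.ext (by rw [pow_one, SubgroupClass.coe_pow, hNe x x.2]; rfl)⟩
    have hd1 : 1 ≤ d := by
      by_contra h
      have h0 : d = 0 := by omega
      have := Finite.one_lt_card (α := N)
      rw [hd, h0, pow_zero] at this
      exact lt_irrefl _ this
    set S := MulAction.stabilizer G x₀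
    have hS : Nat.card S ≤ glCard d q := by
      letI : CommGroup N := { (inferInstance : Group N) with
        mul_comm := fun x y => Subtype.ext (hNc _ x.2 _ y.2) }
      rw [← card_mulAut_of_exponent_prime (fun x => Subtype.ext (hNe x x.2)) hd]
      refine Nat.card_le_card_of_injective ((MulAut.conjNormal : G →* MulAut N).comp S.subtype)
        ((injective_iff_map_eq_one _).2 fun g hg => Subtype.ext (hfree g (fun k hk => ?_) g.2))
      have h1 : (g : G) * k * (g : G)⁻¹ = k := by
        have := congrArg Subtype.val (DFunLike.congr_fun hg ⟨k, hk⟩)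
        simpa using this
      calc (g : G) * k = (g : G) * k * (g : G)⁻¹ * (g : G) := by group
        _ = k * (g : G) := by rw [h1]
    have horb : S.index ≤ Nat.card Ω := by
      rw [MulAction.index_stabilizer, ← Nat.card_univ]
      exact Nat.card_mono Set.finite_univ (Set.subset_univ _)
    rw [← S.index_mul_card, ← hNcard, hd]
    refine le_trans ?_ (perm_arith hq hd1)
    exact Nat.mul_le_mul (horb.trans (by rw [← hNcard, hd])) hS
  · -- several orbits
    let fib : O → Type u := fun o => {x : Ω // π x = o}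
    have hsum : ∑ o, Nat.card (fib o) = Nat.card Ω := by
      rw [← Nat.card_sigma]
      exact Nat.card_congr (Equiv.sigmaFiberEquiv π)
    have hpos : ∀ o, 1 ≤ Nat.card (fib o) := fun o => by
      obtain ⟨x, hx⟩ := hπsurj o
      haveI : Nonempty (fib o) := ⟨⟨x, hx⟩⟩
      exact Nat.card_pos
    have hlt : ∀ o, Nat.card (fib o) < Nat.card Ω := by
      intro o
      obtain ⟨o', ho'⟩ : ∃ o', o' ≠ o := by
        by_contra! h
        exact hone (Finite.card_le_one_iff_subsingleton.2 ⟨fun a b => (h a).trans (h b).symm⟩)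
      obtain ⟨x, hx⟩ := hπsurj o'
      refine lt_of_le_of_ne (Finite.card_subtype_le _) fun h => ho' ?_
      have hb := ((Nat.bijective_iff_injective_and_card (Subtype.val : fib o → Ω)).2 ⟨Subtype.val_injective, h⟩).2 x
      obtain ⟨⟨y, hy⟩, rfl⟩ := hb
      exact hx.symm.trans hy
    have hOlt : Nat.card O < Nat.card Ω := by
      refine lt_of_le_of_ne (Nat.card_le_card_of_surjective π hπsurj) fun h => hN0 ?_
      have hinj := ((Nat.bijective_iff_surjective_and_card π).2 ⟨hπsurj, h.symm⟩).1
      refine (Subgroup.eq_bot_iff_forall N).2 fun k hk => FaithfulSMul.eq_of_smul_eq_smul fun x : Ω => ?_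
      rw [one_smul]
      exact hinj (Quotient.eq''.2 (MulAction.orbitRel_apply.2 ⟨⟨k, hk⟩, rfl⟩))
    -- the kernel on the orbits
    have hK : ∀ g ∈ σ.ker, ∀ x : Ω, π (g • x) = π x := fun g hg x =>
      (hsmul g x).symm.trans (DFunLike.congr_fun (MonoidHom.mem_ker.1 hg) (π x))
    letI actF : ∀ o, MulAction σ.ker (fib o) := fun o =>
      { smul := fun g x => ⟨(g : G) • x.1, (hK g g.2 x.1).trans x.2⟩
        one_smul := fun x => Subtype.ext (one_smul G x.1)
        mul_smul := fun g h x => Subtype.ext (mul_smul (g : G) (h : G) x.1) }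
    let ψ : ∀ o, σ.ker →* Equiv.Perm (fib o) := fun o => MulAction.toPermHom σ.ker (fib o)
    let Φ : σ.ker →* ∀ o, (ψ o).range := Pi.monoidHom fun o => (ψ o).rangeRestrict
    have hΦ : Function.Injective Φ := (injective_iff_map_eq_one Φ).2 fun g hg =>
      Subtype.ext (FaithfulSMul.eq_of_smul_eq_smul fun x : Ω => by
        rw [OneMemClass.coe_one, one_smul]
        exact congrArg Subtype.val (DFunLike.congr_fun (congrArg Subtype.val (congrFun hg (π x))) (⟨x, rfl⟩ : fib (π x))))
    have hker : Nat.card σ.ker ≤ 3 ^ ∑ o, (Nat.card (fib o) - 1) := by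
      refine (Nat.card_le_card_of_injective Φ hΦ).trans ?_
      rw [Nat.card_pi, ← Finset.prod_pow_eq_pow_sum]
      refine Finset.prod_le_prod' fun o _ => ?_
      haveI : Group.IsSolvable (ψ o).range := Group.isSolvable_of_surjective (ψ o).rangeRestrict_surjective
      exact card_le_three_pow ih (fib o) _ (hlt o)
    haveI : Group.IsSolvable σ.range := Group.isSolvable_of_surjective σ.rangeRestrict_surjective
    have hrange := card_le_three_pow ih O σ.range hOlt
    rw [← σ.ker.index_mul_card, Subgroup.index_ker]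
    refine (Nat.mul_le_mul hrange hker).trans ?_
    rw [← pow_add]
    refine Nat.pow_le_pow_right (by norm_num) ?_
    have hsub : ∑ o, (Nat.card (fib o) - 1) + Nat.card O = Nat.card Ω := by
      rw [Nat.card_eq_fintype_card (α := O), ← Finset.card_univ, Finset.card_eq_sum_ones, ← Finset.sum_add_distrib,
        ← hsum]
      exact Finset.sum_congr rfl fun o _ => Nat.sub_add_cancel (hpos o)
    omega

theorem card_perm_subgroup_le {Ω : Type u} [Finite Ω] (G : Subgroup (Equiv.Perm Ω)) [Group.IsSolvable G] :
    Nat.card G ≤ 3 ^ (Nat.card Ω - 1) :=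
  card_le_three_pow (fun m _ => permBound m) Ω G (Nat.lt_succ_self _)

end CfsgLib.Coprime.ClassMod
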