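import Cfsg.Agent.Lib.Coprime.ClassMod.Basic

/-!
# Class numbers of subgroups of the two-dimensional special linear groups over small fields
-/

set_option autoImplicit false
set_option maxRecDepth 100000

namespace CfsgLib.Coprime.ClassMod

open Matrix

theorem card_sl2_two : Fintype.card (SpecialLinearGroup (Fin 2) (ZMod 2)) = 6 := by decide +kernel

theorem card_sl2_three : Fintype.card (SpecialLinearGroup (Fin 2) (ZMod 3)) = 24 := by decide +kernel

theorem card_sl2_five : Fintype.card (SpecialLinearGroup (Fin 2) (ZMod 5)) = 120 := by decide +kernel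

theorem sl2_three_centralizer : ∀ x : SpecialLinearGroup (Fin 2) (ZMod 3), x = 1 ∨ x = -1 ∨
    (Finset.univ.filter fun y : SpecialLinearGroup (Fin 2) (ZMod 3) => y * x = x * y).card ≤ 6 := by
  decide +kernel

/-- two transvections -/
def tu (p : ℕ) : SpecialLinearGroup (Fin 2) (ZMod p) := ⟨!![1, 1; 0, 1], by simp [Matrix.det_fin_two_of]⟩

/-- two transvections -/
def td (p : ℕ) : SpecialLinearGroup (Fin 2) (ZMod p) := ⟨!![1, 0; 1, 1], by simp [Matrix.det_fin_two_of]⟩

theorem sl2_not_comm {p : ℕ} (hp : 2 ≤ p) : tu p * td p ≠ td p * tu p := fun h => by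
  haveI : Fact (1 < p) := ⟨hp⟩
  have h2 : ((tu p).1 * (td p).1) 0 0 = ((td p).1 * (tu p).1) 0 0 :=
    congrFun (congrFun (congrArg Subtype.val h) 0) 0
  simp [tu, td, Matrix.mul_apply, Fin.sum_univ_two] at h2

theorem kc_five_eighths {G : Type*} [Group G] [Finite G] {c : ℕ} {a b : G} (hab : a * b ≠ b * a)
    (h1 : Nat.card G ≤ 2 * c + 1) (h2 : 5 * Nat.card G ≤ 8 * c + 7) : KC G c := by
  intro H
  by_cases hH : H = ⊤
  · subst hH
    have h := five_eighths (⊤ : Subgroup G) fun h => hab
      (congrArg Subtype.val (h ⟨a, Subgroup.mem_top a⟩ ⟨b, Subgroup.mem_top b⟩))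
    rw [Subgroup.card_top] at h
    omega
  · refine card_conjClasses_le_card.trans ?_
    have hm := H.index_mul_card
    have hi : 2 ≤ H.index := by
      have h0 : H.index ≠ 0 := Subgroup.index_ne_zero_of_finite
      have h1' : H.index ≠ 1 := fun h => hH (Subgroup.index_eq_one.1 h)
      omega
    have := Nat.mul_le_mul_right (Nat.card H) hi
    omega

theorem kc_sl2_two : KC (SpecialLinearGroup (Fin 2) (ZMod 2)) 3 :=
  kc_five_eighths (sl2_not_comm le_rfl) (by rw [Nat.card_eq_fintype_card, card_sl2_two]; norm_num)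
    (by rw [Nat.card_eq_fintype_card, card_sl2_two]; norm_num)

theorem kc_sl2_five : KC (SpecialLinearGroup (Fin 2) (ZMod 5)) 81 :=
  kc_five_eighths (sl2_not_comm (by norm_num)) (by rw [Nat.card_eq_fintype_card, card_sl2_five]; norm_num)
    (by rw [Nat.card_eq_fintype_card, card_sl2_five]; norm_num)

theorem kc_sl2_three : KC (SpecialLinearGroup (Fin 2) (ZMod 3)) 9 := by
  classical
  intro H
  rcases le_or_gt (Nat.card H) 9 with h9 | h9
  · exact card_conjClasses_le_card.trans h9
  have hC : ∀ x : H, (x : SpecialLinearGroup (Fin 2) (ZMod 3)) ≠ 1 → (x : SpecialLinearGroup (Fin 2) (ZMod 3)) ≠ -1 →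
      Nat.card (Subgroup.centralizer ({x} : Set H)) ≤ 6 := by
    intro x h1 h2
    refine le_trans ?_ (((sl2_three_centralizer x).resolve_left h1).resolve_left h2)
    rw [← Fintype.card_coe, ← Nat.card_eq_fintype_card]
    refine Nat.card_le_card_of_injective (fun y => ⟨((y : H) : SpecialLinearGroup (Fin 2) (ZMod 3)), ?_⟩) ?_
    · exact Finset.mem_filter.2 ⟨Finset.mem_univ _, congrArg Subtype.val (Subgroup.mem_centralizer_singleton_iff.1 y.2)⟩
    · intro y z h
      exact Subtype.ext (Subtype.ext (congrArg Subtype.val h :))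
  have hcen : ∀ x : H, x ∈ Subgroup.center H → (x : SpecialLinearGroup (Fin 2) (ZMod 3)) = 1 ∨
      (x : SpecialLinearGroup (Fin 2) (ZMod 3)) = -1 := by
    intro x hx
    by_contra! hne
    have h6 := hC x hne.1 hne.2
    have htop : Subgroup.centralizer ({x} : Set H) = ⊤ := eq_top_iff.2 fun y _ =>
      Subgroup.mem_centralizer_singleton_iff.2 (Subgroup.mem_center_iff.1 hx y)
    rw [htop, Subgroup.card_top] at h6
    omega
  have hz : Nat.card (Subgroup.center H) ≤ 2 := by
    refine le_trans (Nat.card_le_card_of_injective (fun x : Subgroup.center H =>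
      (⟨((x : H) : SpecialLinearGroup (Fin 2) (ZMod 3)), ?_⟩ :
        ({1, -1} : Finset (SpecialLinearGroup (Fin 2) (ZMod 3))))) ?_) ?_
    · rcases hcen x x.2 with h | h <;> simp [h]
    · intro x y h
      exact Subtype.ext (Subtype.ext (congrArg Subtype.val h :))
    · rw [Nat.card_eq_fintype_card, Fintype.card_coe]
      exact Finset.card_le_two
  have hne : ∀ x : H, x ∉ Subgroup.center H → Nat.card (Subgroup.centralizer ({x} : Set H)) ≤ 6 := by
    intro x hx
    refine hC x (fun h => hx ?_) (fun h => hx ?_)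
    · exact Subgroup.mem_center_iff.2 fun y => Subtype.ext (by simp [h])
    · exact Subgroup.mem_center_iff.2 fun y => Subtype.ext (by simp [h])
  have h := conjClasses_mul_card_le H hne
  have hle : Nat.card H ≤ 24 := (Subgroup.card_le_card_group H).trans
    (le_of_eq (by rw [Nat.card_eq_fintype_card, card_sl2_three]))
  generalize Nat.card (ConjClasses H) = k at h ⊢
  generalize Nat.card (Subgroup.center H) = z at h hz
  by_contra hk
  obtain ⟨d, hd⟩ := Nat.exists_eq_add_of_le (show z ≤ Nat.card H by omega)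
  rw [hd, Nat.add_sub_cancel_left] at h
  rw [hd] at h9 hle
  nlinarith

end CfsgLib.Coprime.ClassMod
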