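import Cfsg.Agent.Lib.Coprime.ClassMod.Eigen
import Cfsg.Agent.Lib.Coprime.Component

/-!
# All abelian normal subgroups scalar: the Fitting subgroup is of symplectic type
-/

set_option autoImplicit false
set_option linter.style.haveILetI false
set_option linter.unusedSectionVars false

namespace CfsgLib.Coprime.ClassMod

open Module
open scoped commutatorElement

variable {G V : Type} [Group G] [Finite G] [AddCommGroup V] [Module ℂ V] [FiniteDimensional ℂ V]

/-- the scalar elements -/
def scalars (ρ : G →* (V ≃ₗ[ℂ] V)) : Subgroup G where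
  carrier := {g | IsScalar ρ g}
  one_mem' := ⟨1, fun v => by rw [map_one, one_smul]; rfl⟩
  mul_mem' := fun {g h} ⟨a, ha⟩ ⟨b, hb⟩ => ⟨a * b, fun v => by
    rw [map_mul, LinearEquiv.mul_apply, hb, map_smul, ha, smul_smul, mul_comm]⟩
  inv_mem' := fun {g} ⟨a, ha⟩ => ⟨a⁻¹, fun v => by
    have h1 : ρ g⁻¹ (ρ g v) = v := by rw [← LinearEquiv.mul_apply, ← map_mul, inv_mul_cancel, map_one]; rfl
    rw [ha, map_smul] at h1
    rcases eq_or_ne a 0 with rfl | h0
    · rw [zero_smul] at h1
      rw [← h1, map_zero, smul_zero]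
    · calc ρ g⁻¹ v = a⁻¹ • a • ρ g⁻¹ v := (inv_smul_smul₀ h0 _).symm
        _ = a⁻¹ • v := by rw [h1]⟩

theorem mem_scalars {ρ : G →* (V ≃ₗ[ℂ] V)} {g : G} : g ∈ scalars ρ ↔ IsScalar ρ g := Iff.rfl

/-- all abelian normal subgroups are scalar -/
def AllScalar (ρ : G →* (V ≃ₗ[ℂ] V)) : Prop :=
  ∀ A : Subgroup G, A.Normal → (∀ a ∈ A, ∀ b ∈ A, a * b = b * a) → ∀ a ∈ A, IsScalar ρ a

variable (ρ : G →* (V ≃ₗ[ℂ] V))

theorem scalar_comm (hρ : Function.Injective ρ) {z : G} (hz : z ∈ scalars ρ) (g : G) : z * g = g * z := by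
  obtain ⟨c, hc⟩ := hz
  refine hρ (LinearEquiv.ext fun v => ?_)
  rw [map_mul, map_mul, LinearEquiv.mul_apply, LinearEquiv.mul_apply, hc, hc, map_smul]

theorem scalars_normal (hρ : Function.Injective ρ) : (scalars ρ).Normal :=
  ⟨fun z hz g => by rw [← scalar_comm ρ hρ hz g, mul_inv_cancel_right]; exact hz⟩

/-- the commutators of the Fitting subgroup are scalar -/
theorem fitting_commutator_scalar (hρ : Function.Injective ρ) (hall : AllScalar ρ) {x y : G}
    (hx : x ∈ Cfsg.fittingSubgroup G) (hy : y ∈ Cfsg.fittingSubgroup G) : IsScalar ρ ⁅x, y⁆ := by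
  set F := Cfsg.fittingSubgroup G with hF
  haveI hFn : F.Normal := CfsgLib.Coprime.fitting_normal
  haveI : Group.IsNilpotent F := CfsgLib.Coprime.fitting_isNilpotent
  let L : ℕ → Subgroup G := fun k => F.lowerCentralSeries k
  have hLsucc : ∀ k, L (k + 1) = ⁅L k, F⁆ := fun k => rfl
  obtain ⟨n, hn⟩ := (Subgroup.isNilpotent_iff_lowerCentralSeries F).1 (inferInstance : Group.IsNilpotent F)
  have hLn : ∀ k, (L k).Normal := by
    intro k
    induction k with
    | zero => exact hFn
    | succ k ih => exact @Subgroup.commutator_normal _ _ _ _ ih hFn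
  have hLF : ∀ k, L k ≤ F := fun k => Subgroup.lowerCentralSeries_antitone F (Nat.zero_le k)
  have hstep : ∀ k, 1 ≤ k → L (k + 1) ≤ scalars ρ → L k ≤ scalars ρ := by
    intro k hk hle
    have hz : ∀ K : Subgroup G, K ≤ scalars ρ → ⁅K, F⁆ = ⊥ := fun K hK => le_bot_iff.1
      (Subgroup.commutator_le.2 fun a ha b _ => by
        rw [Subgroup.mem_bot, commutatorElement_eq_one_iff_mul_comm]
        exact scalar_comm ρ hρ (hK ha) b)
    have h0 : ⁅⁅F, F⁆, L k⁆ = ⊥ := Subgroup.commutator_commutator_eq_bot_of_rotate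
      (by rw [Subgroup.commutator_comm F (L k)]; exact hz _ hle) (hz _ hle)
    have hkF : L k ≤ ⁅F, F⁆ := by
      obtain ⟨j, rfl⟩ := Nat.exists_eq_add_of_le hk
      rw [Nat.add_comm, hLsucc]
      exact Subgroup.commutator_mono (hLF j) le_rfl
    intro a ha
    refine hall (L k) (hLn k) (fun u hu v hv => ?_) a ha
    have h1 : ⁅u, v⁆ ∈ (⊥ : Subgroup G) := h0 ▸ Subgroup.commutator_mem_commutator (hkF hu) hv
    exact commutatorElement_eq_one_iff_mul_comm.1 (Subgroup.mem_bot.1 h1)
  have hdown : ∀ j k, 1 ≤ k → k + j = n + 1 → L k ≤ scalars ρ := by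
    intro j
    induction j with
    | zero =>
      intro k _ hkj
      obtain rfl : k = n + 1 := by omega
      rw [hLsucc, show L n = ⊥ from hn]
      exact Subgroup.commutator_le.2 fun a ha b _ => by
        rw [Subgroup.mem_bot.1 ha, commutatorElement_one_left]; exact one_mem _
    | succ j ih =>
      intro k hk hkj
      exact hstep k hk (ih (k + 1) (by omega) (by omega))
  exact hdown n 1 le_rfl (by omega) (Subgroup.commutator_mem_commutator hx hy)

variable {ρ}

theorem scalars_le_fitting (hρ : Function.Injective ρ) : scalars ρ ≤ Cfsg.fittingSubgroup G := by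
  haveI := scalars_normal ρ hρ
  refine CfsgLib.Coprime.le_fitting ?_
  letI : CommGroup (scalars ρ) := { (inferInstance : Group (scalars ρ)) with
    mul_comm := fun x y => Subtype.ext (scalar_comm ρ hρ x.2 y) }
  infer_instance

theorem scalar_eq_of_ne (c d : ℂ) {v : V} (hv : v ≠ 0) (h : c • v = d • v) : c = d :=
  smul_left_injective ℂ hv h

/-- an element of the Fitting subgroup commuting with all of it is scalar -/
theorem scalar_of_central (hall : AllScalar ρ) {x : G} (hx : x ∈ Cfsg.fittingSubgroup G)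
    (h : ∀ y ∈ Cfsg.fittingSubgroup G, x * y = y * x) : IsScalar ρ x := by
  haveI : (Cfsg.fittingSubgroup G).Normal := CfsgLib.Coprime.fitting_normal
  refine hall (Cfsg.fittingSubgroup G ⊓ Subgroup.centralizer (Cfsg.fittingSubgroup G : Set G)) inferInstance
    (fun a ha b hb => Subgroup.mem_centralizer_iff.1 hb.2 a ha.1) x
    ⟨hx, Subgroup.mem_centralizer_iff.2 fun y hy => (h y hy).symm⟩

/-- the number of cosets of the scalars in the Fitting subgroup -/
theorem card_fitting_cosets_le (hρ : Function.Injective ρ) (hall : AllScalar ρ) (hr : 0 < finrank ℂ V) :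
    (scalars ρ).relIndex (Cfsg.fittingSubgroup G) ≤ finrank ℂ V ^ 2 := by
  classical
  set F := Cfsg.fittingSubgroup G with hF
  set Z := (scalars ρ).subgroupOf F with hZ
  haveI := Fintype.ofFinite (F ⧸ Z)
  let o : F ⧸ Z → F := Quotient.out
  rcases subsingleton_or_nontrivial V with hV | hV
  · -- the group is trivial
    have hsub : F ≤ scalars ρ := fun g _ => ⟨0, fun v => Subsingleton.elim _ _⟩
    rw [Subgroup.relIndex_eq_one.2 hsub]
    exact Nat.one_le_pow _ _ hr
  let T : F ⧸ Z → Module.End ℂ V := fun q => (ρ (o q : G)).toLinearMap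
  have hind : LinearIndependent ℂ T := by
    rw [Fintype.linearIndependent_iff]
    intro c hc i
    have htr : ∀ a b : F ⧸ Z, a ≠ b →
        LinearMap.trace ℂ V ((ρ ((o b : G)⁻¹ * (o a : G))).toLinearMap) = 0 := by
      intro a b hab
      set x : G := (o b : G)⁻¹ * (o a : G) with hx
      have hxF : x ∈ F := mul_mem (inv_mem (o b).2) (o a).2
      have hxZ : ¬ IsScalar ρ x := fun h => hab (by
        rw [← QuotientGroup.out_eq' a, ← QuotientGroup.out_eq' b]
        exact (QuotientGroup.eq.2 (show (o b)⁻¹ * o a ∈ Z from h)).symm)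
      obtain ⟨y, hy, hxy⟩ : ∃ y ∈ F, x * y ≠ y * x := by
        by_contra! h
        exact hxZ (scalar_of_central hall hxF h)
      obtain ⟨ζ, hζ⟩ := fitting_commutator_scalar ρ hρ hall hy hxF
      have hζ1 : ζ ≠ 1 := fun h1 => hxy (Eq.symm (commutatorElement_eq_one_iff_mul_comm.1
        (hρ (LinearEquiv.ext fun v => by rw [hζ, h1, one_smul, map_one]; rfl))))
      have hconj : (ρ (y * x * y⁻¹)).toLinearMap = ζ • (ρ x).toLinearMap := by
        refine LinearMap.ext fun v => ?_
        rw [show y * x * y⁻¹ = ⁅y, x⁆ * x by rw [commutatorElement_def, inv_mul_cancel_right]]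
        show ρ (⁅y, x⁆ * x) v = ζ • ρ x v
        rw [map_mul, LinearEquiv.mul_apply, hζ]
      have h1 : LinearMap.trace ℂ V (ρ (y * x * y⁻¹)).toLinearMap = LinearMap.trace ℂ V (ρ x).toLinearMap := by
        have e1 : (ρ (y * x * y⁻¹)).toLinearMap = (ρ y).toLinearMap * ((ρ x).toLinearMap * (ρ y⁻¹).toLinearMap) := by
          rw [map_mul, map_mul, mul_assoc]; rfl
        have e2 : (ρ x).toLinearMap * (ρ y⁻¹).toLinearMap * (ρ y).toLinearMap = (ρ x).toLinearMap := by
          rw [mul_assoc, show (ρ y⁻¹).toLinearMap * (ρ y).toLinearMap = (ρ y⁻¹ * ρ y).toLinearMap from rfl,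
            ← map_mul, inv_mul_cancel, map_one]
          exact mul_one _
        rw [e1, LinearMap.trace_mul_comm, e2]
      rw [hconj, map_smul, smul_eq_mul] at h1
      have h2 : (ζ - 1) * LinearMap.trace ℂ V (ρ x).toLinearMap = 0 := by rw [sub_mul, h1, one_mul, sub_self]
      exact (mul_eq_zero.1 h2).resolve_left (sub_ne_zero.2 hζ1)
    have h := congrArg (fun S => LinearMap.trace ℂ V ((ρ (o i : G)⁻¹).toLinearMap * S)) hc
    simp only [mul_zero, map_zero, Finset.mul_sum, map_sum, mul_smul_comm, map_smul, smul_eq_mul] at h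
    rw [Finset.sum_eq_single i] at h
    · have h1 : (ρ (o i : G)⁻¹).toLinearMap * T i = 1 := by
        show (ρ (o i : G)⁻¹ * ρ (o i : G)).toLinearMap = 1
        rw [← map_mul, inv_mul_cancel, map_one]; rfl
      rw [h1, LinearMap.trace_one] at h
      exact (mul_eq_zero.1 h).resolve_right (Nat.cast_ne_zero.2 Module.finrank_pos.ne')
    · intro j _ hji
      have h1 : (ρ (o i : G)⁻¹).toLinearMap * T j = (ρ ((o i : G)⁻¹ * (o j : G))).toLinearMap := by
        rw [map_mul]; rfl
      rw [h1, htr j i hji, mul_zero]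
    · exact fun h' => absurd (Finset.mem_univ _) h'
  have hle := hind.fintype_card_le_finrank
  rw [Module.finrank_linearMap, ← sq] at hle
  rw [Subgroup.relIndex, ← hZ, Subgroup.index, Nat.card_eq_fintype_card]
  exact hle

end CfsgLib.Coprime.ClassMod
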