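import Mathlib

/-!
# The number of isometries of a non-degenerate bilinear form
-/

set_option autoImplicit false
set_option linter.style.haveILetI false

namespace CfsgLib.Coprime.ClassMod

open Module

variable {p : ℕ} [Fact p.Prime] {V : Type*} [AddCommGroup V] [Module (ZMod p) V] [Finite V]

/-- independent tuples with given values of the form -/
def Tup (b : V →ₗ[ZMod p] V →ₗ[ZMod p] ZMod p) {d : ℕ} (β : Fin d → Fin d → ZMod p) (k : ℕ) (hk : k ≤ d) :
    Set (Fin k → V) :=
  {f | LinearIndependent (ZMod p) f ∧ ∀ i j : Fin k, b (f i) (f j) = β (Fin.castLE hk i) (Fin.castLE hk j)}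

theorem card_tup_le (b : V →ₗ[ZMod p] V →ₗ[ZMod p] ZMod p)
    (hb : ∀ v, (∀ w, b v w = 0) → v = 0) {d : ℕ} (hd : finrank (ZMod p) V = d) (β : Fin d → Fin d → ZMod p) :
    ∀ k, ∀ hk : k ≤ d, Nat.card (Tup b β k hk) ≤ p ^ ∑ i ∈ Finset.range k, (d - i) := by
  intro k
  induction k with
  | zero =>
    intro hk
    rw [Finset.range_zero, Finset.sum_empty, pow_zero]
    exact (Finite.card_subtype_le _).trans (le_of_eq (Nat.card_of_subsingleton (0 : Fin 0 → V)))
  | succ k ih =>
    intro hk
    haveI : FiniteDimensional (ZMod p) V := Module.Finite.of_finite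
    set S := Tup b β k (Nat.le_of_succ_le hk) with hS
    let π : Tup b β (k + 1) hk → S := fun f => ⟨fun i => f.1 i.castSucc,
      f.2.1.comp _ (Fin.castSucc_injective k), fun i j => by
        rw [f.2.2]
        exact congrArg₂ β (Fin.ext rfl) (Fin.ext rfl)⟩
    have hfib : ∀ f0 : S, Nat.card {f : Tup b β (k + 1) hk // π f = f0} ≤ p ^ (d - k) := by
      intro f0
      rcases isEmpty_or_nonempty {f : Tup b β (k + 1) hk // π f = f0} with he | ⟨⟨f1⟩⟩
      · rw [Nat.card_of_isEmpty]; exact Nat.zero_le _
      let L : V →ₗ[ZMod p] (Fin k → ZMod p) := LinearMap.pi fun i => b (f0.1 i)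
      have hker : finrank (ZMod p) (LinearMap.ker L) = d - k := by
        have hLrange : LinearMap.range L = ⊤ := by
          by_contra hne
          obtain ⟨φ, hφ0, hφ⟩ := Submodule.exists_dual_map_eq_bot_of_lt_top (lt_top_iff_ne_top.2 hne) inferInstance
          refine hφ0 (LinearMap.ext fun x => ?_)
          have hc : ∑ i, φ (Pi.single i 1) • f0.1 i = 0 := hb _ fun w => by
            have hw : φ (L w) = 0 := by
              have : φ (L w) ∈ (LinearMap.range L).map φ := Submodule.mem_map_of_mem ⟨w, rfl⟩
              rwa [hφ, Submodule.mem_bot] at this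
            rw [← hw]
            conv_rhs => rw [pi_eq_sum_univ' (L w), map_sum]
            rw [map_sum, LinearMap.sum_apply]
            refine Finset.sum_congr rfl fun i _ => ?_
            rw [map_smul, map_smul, LinearMap.smul_apply, smul_eq_mul, smul_eq_mul, mul_comm]
            simp [L]
          have hz := Fintype.linearIndependent_iff.1 f0.2.1 _ hc
          rw [pi_eq_sum_univ' x, map_sum, LinearMap.zero_apply]
          refine Finset.sum_eq_zero fun i _ => ?_
          rw [map_smul, smul_eq_mul]
          convert mul_zero _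
          rw [← hz i]
        have h := LinearMap.finrank_range_add_finrank_ker L
        rw [hLrange, finrank_top, Module.finrank_fin_fun, hd] at h
        omega
      have hLval : ∀ f : {f : Tup b β (k + 1) hk // π f = f0}, ∀ i : Fin k,
          b (f0.1 i) (f.1.1 (Fin.last k)) = β (Fin.castLE (Nat.le_of_succ_le hk) i) (Fin.castLE hk (Fin.last k)) := by
        intro f i
        rw [← show f.1.1 i.castSucc = f0.1 i from congrFun (congrArg Subtype.val f.2) i]
        rw [f.1.2.2]
        exact congrArg₂ β (Fin.ext rfl) rfl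
      let u : {f : Tup b β (k + 1) hk // π f = f0} → LinearMap.ker L := fun f =>
        ⟨f.1.1 (Fin.last k) - f1.1.1 (Fin.last k), LinearMap.mem_ker.2 (funext fun i => by
          show b (f0.1 i) (f.1.1 (Fin.last k) - f1.1.1 (Fin.last k)) = 0
          rw [map_sub, hLval, hLval, sub_self])⟩
      have hu : Function.Injective u := fun f g h => by
        refine Subtype.ext (Subtype.ext (funext fun i => ?_))
        induction i using Fin.lastCases with
        | last => exact sub_left_inj.1 (congrArg Subtype.val h)
        | cast i => exact congrFun (congrArg Subtype.val (f.2.trans g.2.symm)) i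
      refine (Nat.card_le_card_of_injective u hu).trans (le_of_eq ?_)
      rw [Module.natCard_eq_pow_finrank (K := ZMod p), Nat.card_zmod, hker]
    letI := Fintype.ofFinite S
    rw [Nat.card_congr (Equiv.sigmaFiberEquiv π).symm, Nat.card_sigma]
    refine (Finset.sum_le_card_nsmul _ _ _ fun f0 _ => hfib f0).trans ?_
    rw [smul_eq_mul, Finset.card_univ, ← Nat.card_eq_fintype_card, Finset.sum_range_succ, pow_add]
    exact Nat.mul_le_mul_right _ (ih _)

theorem sum_range_desc : ∀ d, 2 * ∑ i ∈ Finset.range d, (d - i) = d * (d + 1) := by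
  intro d
  induction d with
  | zero => simp
  | succ d ih =>
    rw [Finset.sum_range_succ', Nat.sub_zero,
      Finset.sum_congr rfl fun i _ => Nat.add_sub_add_right d 1 i]
    nlinarith

/-- the isometries of a non-degenerate form number at most `p ^ (m (2m + 1))` -/
theorem card_isometries_le (b : V →ₗ[ZMod p] V →ₗ[ZMod p] ZMod p) (hb : ∀ v, (∀ w, b v w = 0) → v = 0)
    {m : ℕ} (hd : finrank (ZMod p) V = 2 * m) (X : Subgroup (V ≃ₗ[ZMod p] V))
    (hX : ∀ g ∈ X, ∀ v w, b (g v) (g w) = b v w) : Nat.card X ≤ p ^ (m * (2 * m + 1)) := by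
  haveI : FiniteDimensional (ZMod p) V := Module.Finite.of_finite
  let e := Module.finBasisOfFinrankEq (ZMod p) V hd
  let u : X → Tup b (fun i j => b (e i) (e j)) (2 * m) le_rfl := fun g =>
    ⟨fun i => (g : V ≃ₗ[ZMod p] V) (e i), e.linearIndependent.map' (g : V ≃ₗ[ZMod p] V).toLinearMap (LinearEquiv.ker _),
      fun i j => by rw [hX _ g.2]; rfl⟩
  have hu : Function.Injective u := fun g h hgh => by
    have := congrArg Subtype.val hgh
    exact Subtype.ext (LinearEquiv.toLinearMap_injective (e.ext fun i => congrFun this i))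
  refine ((Nat.card_le_card_of_injective u hu).trans (card_tup_le b hb hd _ _ _)).trans (le_of_eq ?_)
  have := sum_range_desc (2 * m)
  congr 1
  linarith

end CfsgLib.Coprime.ClassMod
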