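import Cfsg.Agent.Lib.Coprime.ClassMod.Tables
import Cfsg.Agent.Lib.Coprime.ClassMod.Arith
import Cfsg.Agent.Lib.Coprime.ClassMod.SL2
import Cfsg.Agent.Lib.Coprime.ClassMod.SympCard

/-!
# Class numbers of solvable symplectic groups without invariant totally isotropic subspaces
-/

set_option autoImplicit false
set_option linter.style.haveILetI false
set_option linter.unusedSectionVars false

namespace CfsgLib.Coprime.ClassMod

open Module CfsgLib.Char CfsgLib.Char.Berger

universe v

variable {p : ℕ} [Fact p.Prime] {V : Type v} [AddCommGroup V] [Module (ZMod p) V] [Finite V]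

/-- a group of isometries is semisimple when no totally isotropic subspace is invariant -/
theorem ss_of_form (b : V →ₗ[ZMod p] V →ₗ[ZMod p] ZMod p) (X : Subgroup (V ≃ₗ[ZMod p] V))
    (hX : ∀ g ∈ X, ∀ v w, b (g v) (g w) = b v w)
    (hiso : ∀ W : Submodule (ZMod p) V, Inv X W → (∀ v ∈ W, ∀ w ∈ W, b v w = 0) → W = ⊥) : SS X := by
  intro W hW
  haveI : FiniteDimensional (ZMod p) V := Module.Finite.of_finite
  let L : V →ₗ[ZMod p] Module.Dual (ZMod p) W := (W.subtype.dualMap).comp b
  have hL : ∀ v, v ∈ LinearMap.ker L ↔ ∀ w ∈ W, b v w = 0 := fun v =>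
    ⟨fun h w hw => DFunLike.congr_fun (LinearMap.mem_ker.1 h) ⟨w, hw⟩,
      fun h => LinearMap.mem_ker.2 (LinearMap.ext fun w => h w w.2)⟩
  have hinv : Inv X (LinearMap.ker L) := by
    intro g hg v hv
    rw [hL] at hv ⊢
    intro w hw
    have h1 : (g⁻¹ : V ≃ₗ[ZMod p] V) w ∈ W := hW g⁻¹ (inv_mem hg) w hw
    have h2 : g ((g⁻¹ : V ≃ₗ[ZMod p] V) w) = w := LinearEquiv.apply_symm_apply g w
    rw [← h2, hX g hg]
    exact hv _ h1
  refine ⟨LinearMap.ker L, hinv, ?_⟩
  have hd : W ⊓ LinearMap.ker L = ⊥ := hiso _ (fun g hg v hv => ⟨hW g hg v hv.1, hinv g hg v hv.2⟩)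
    fun v hv w hw => (hL v).1 hv.2 w hw.1
  refine ⟨disjoint_iff.2 hd, codisjoint_iff.2 (Submodule.eq_top_of_finrank_eq ?_)⟩
  have h1 := Submodule.finrank_sup_add_finrank_inf_eq W (LinearMap.ker L)
  rw [hd, finrank_bot] at h1
  have h2 := LinearMap.finrank_range_add_finrank_ker L
  have h3 : finrank (ZMod p) (LinearMap.range L) ≤ finrank (ZMod p) W :=
    (Submodule.finrank_le _).trans (le_of_eq Subspace.dual_finrank_eq)
  have h4 := Submodule.finrank_le (W ⊔ LinearMap.ker L)
  omega

/-- in dimension two a group of determinant one embeds in `SL(2, p)` -/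
theorem kc_dim_two {c : ℕ} (hc : KC (Matrix.SpecialLinearGroup (Fin 2) (ZMod p)) c)
    (X : Subgroup (V ≃ₗ[ZMod p] V)) (hd : finrank (ZMod p) V = 2)
    (hdet : ∀ g ∈ X, LinearMap.det (g : V ≃ₗ[ZMod p] V).toLinearMap = 1) : KC X c := by
  haveI : FiniteDimensional (ZMod p) V := Module.Finite.of_finite
  haveI := finite_gl (p := p) (V := V)
  let e := Module.finBasisOfFinrankEq (ZMod p) V hd
  let f : X →* Matrix.SpecialLinearGroup (Fin 2) (ZMod p) :=
    { toFun := fun g => ⟨LinearMap.toMatrix e e (g : V ≃ₗ[ZMod p] V).toLinearMap, by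
        rw [LinearMap.det_toMatrix]; exact hdet _ g.2⟩
      map_one' := Subtype.ext (LinearMap.toMatrix_id e)
      map_mul' := fun g h => Subtype.ext (LinearMap.toMatrix_comp e e e _ _) }
  refine KC.of_injective f (fun g h hgh => Subtype.ext (LinearEquiv.toLinearMap_injective ?_)) hc
  exact (LinearMap.toMatrix e e).injective (congrArg Subtype.val hgh)

theorem det_eq_one_of_form (b : V →ₗ[ZMod p] V →ₗ[ZMod p] ZMod p) (halt : ∀ v, b v v = 0)
    (hb : ∀ v, (∀ w, b v w = 0) → v = 0) (hd : finrank (ZMod p) V = 2) (g : V ≃ₗ[ZMod p] V)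
    (hg : ∀ v w, b (g v) (g w) = b v w) : LinearMap.det g.toLinearMap = 1 := by
  haveI : FiniteDimensional (ZMod p) V := Module.Finite.of_finite
  let e := Module.finBasisOfFinrankEq (ZMod p) V hd
  have hanti : b (e 1) (e 0) = - b (e 0) (e 1) := by
    have h := halt (e 0 + e 1)
    simp only [map_add, LinearMap.add_apply, halt, zero_add, add_zero] at h
    linear_combination h
  have hne : b (e 0) (e 1) ≠ 0 := fun h0 => e.ne_zero 0 (hb _ fun w => by
    rw [← e.sum_repr w, Fin.sum_univ_two]
    simp [halt, h0])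
  have hexp : ∀ j : Fin 2, g (e j) = LinearMap.toMatrix e e g.toLinearMap 0 j • e 0 +
      LinearMap.toMatrix e e g.toLinearMap 1 j • e 1 := fun j => by
    conv_lhs => rw [← e.sum_repr (g (e j))]
    rw [Fin.sum_univ_two, LinearMap.toMatrix_apply, LinearMap.toMatrix_apply]
    rfl
  have h := hg (e 0) (e 1)
  rw [hexp, hexp] at h
  simp only [map_add, map_smul, LinearMap.add_apply, LinearMap.smul_apply, smul_eq_mul, halt, hanti] at h
  rw [← LinearMap.det_toMatrix e, Matrix.det_fin_two]
  refine mul_right_cancel₀ hne ?_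
  rw [one_mul]
  linear_combination h

section two

variable {U : Type v} [AddCommGroup U] [Module (ZMod 2) U] [Finite U]

theorem det_eq_one_two (g : U ≃ₗ[ZMod 2] U) : LinearMap.det g.toLinearMap = 1 := by
  have h : LinearMap.det g.toLinearMap ≠ 0 := g.isUnit_det'.ne_zero
  exact (show ∀ x : ZMod 2, x ≠ 0 → x = 1 by decide) _ h

theorem kc_two_dim_two (X : Subgroup (U ≃ₗ[ZMod 2] U)) (hd : finrank (ZMod 2) U = 2) : KC X 3 :=
  kc_dim_two kc_sl2_two X hd fun g _ => det_eq_one_two g

/-- an isometry of a four-dimensional form over `GF(2)` inside a field does not have order fifteen -/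
theorem pow_ne_of_form {K : Type*} [Field K] [Algebra (ZMod 2) K] [Finite K] (hK : Nat.card K = 2 ^ 4)
    (b : U →ₗ[ZMod 2] U →ₗ[ZMod 2] ZMod 2) (hb : ∀ v, (∀ w, b v w = 0) → v = 0)
    (ι : K →ₐ[ZMod 2] Module.End (ZMod 2) U) (hι : Function.Injective ι) (a : K)
    (ha : orderOf a = 15) (hab : ∀ v w, b (ι a v) (ι a w) = b v w) : False := by
  have ha0 : a ≠ 0 := fun h => by rw [h, orderOf_zero] at ha; norm_num at ha
  have hpow : ∀ n : ℕ, ∀ v w, b (ι (a ^ n) v) w = b v (ι (a⁻¹ ^ n) w) := by
    intro n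
    induction n with
    | zero => intro v w; simp
    | succ n ih =>
      intro v w
      have hadj : ∀ v w, b (ι a v) w = b v (ι a⁻¹ w) := fun v w => by
        conv_lhs => rw [show w = ι a (ι a⁻¹ w) by rw [← Module.End.mul_apply, ← map_mul, mul_inv_cancel₀ ha0, map_one, Module.End.one_apply]]
        exact hab _ _
      rw [pow_succ, map_mul, Module.End.mul_apply, ih, hadj, ← Module.End.mul_apply, ← map_mul, ← pow_succ']
  have hpoly : ∀ (f : Polynomial (ZMod 2)) v w, b (ι (Polynomial.aeval a f) v) w = b v (ι (Polynomial.aeval a⁻¹ f) w) := by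
    intro f
    induction f using Polynomial.induction_on' with
    | add f g hf hg => intro v w; simp [hf, hg]
    | monomial n c =>
      intro v w
      simp only [Polynomial.aeval_monomial, ← Algebra.smul_def, map_smul, LinearMap.smul_apply, hpow]
  have hgen : Function.Surjective (Polynomial.aeval (R := ZMod 2) a) := by
    intro x
    rcases eq_or_ne x 0 with rfl | hx
    · exact ⟨0, map_zero _⟩
    · haveI := Fintype.ofFinite K
      have hu : orderOf (Units.mk0 a ha0) = Nat.card Kˣ := by
        rw [← orderOf_units, Units.val_mk0, ha, Nat.card_units, hK]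
        norm_num
      obtain ⟨n, hn⟩ := (Submonoid.mem_powers_iff _ _).1 ((IsOfFinOrder.mem_powers_iff_mem_zpowers
        (isOfFinOrder_of_finite (Units.mk0 a ha0))).2
          (((Subgroup.eq_top_iff' _).1 ((Subgroup.card_eq_iff_eq_top _).1 (by rw [Nat.card_zpowers, hu])) ) (Units.mk0 x hx)))
      refine ⟨Polynomial.X ^ n, ?_⟩
      rw [map_pow, Polynomial.aeval_X]
      exact congrArg Units.val hn
  have hker : RingHom.ker (Polynomial.aeval (R := ZMod 2) a).toRingHom ≤
      RingHom.ker (Polynomial.aeval (R := ZMod 2) a⁻¹).toRingHom := by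
    intro f hf
    have hf' : Polynomial.aeval a f = 0 := hf
    show Polynomial.aeval a⁻¹ f = 0
    refine hι (LinearMap.ext fun w => ?_)
    rw [map_zero, LinearMap.zero_apply]
    by_contra hne
    have hb' : ∀ w, (∀ v, b v w = 0) → w = 0 := by
      haveI : FiniteDimensional (ZMod 2) U := Module.Finite.of_finite
      intro w hw
      have hbij : Function.Surjective b := (LinearMap.injective_iff_surjective_of_finrank_eq_finrank
        (Subspace.dual_finrank_eq (V := U)).symm).1 ((injective_iff_map_eq_zero b).2 fun v hv => hb v fun w => by rw [hv]; rfl)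
      by_contra hw0
      obtain ⟨φ, hφ⟩ := Module.Projective.exists_dual_ne_zero (ZMod 2) hw0
      obtain ⟨v, rfl⟩ := hbij φ
      exact hφ (hw v)
    exact hne (hb' _ fun v => by rw [← hpoly, hf', map_zero, LinearMap.zero_apply, map_zero, LinearMap.zero_apply])
  let φ0 : K →+* K := (Polynomial.aeval (R := ZMod 2) a).toRingHom.liftOfRightInverse _
    (Function.rightInverse_surjInv hgen) ⟨_, hker⟩
  have hφa : φ0 a = a⁻¹ := by
    have h := RingHom.liftOfRightInverse_comp_apply (Polynomial.aeval (R := ZMod 2) a).toRingHom _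
      (Function.rightInverse_surjInv hgen) ⟨_, hker⟩ Polynomial.X
    simpa [φ0] using h
  have hcomm : ∀ c : ZMod 2, φ0 (algebraMap (ZMod 2) K c) = algebraMap (ZMod 2) K c := fun c =>
    DFunLike.congr_fun (RingHom.ext_zmod (φ0.comp (algebraMap (ZMod 2) K)) (algebraMap (ZMod 2) K)) c
  let φ : K →ₐ[ZMod 2] K := { φ0 with commutes' := hcomm }
  haveI := Fintype.ofFinite K
  obtain ⟨i, hi⟩ := (FiniteField.bijective_frobeniusAlgHom_pow (ZMod 2) K).2 φ
  have hrank : Module.finrank (ZMod 2) K = 4 := by
    have h := Module.natCard_eq_pow_finrank (K := ZMod 2) (V := K)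
    rw [hK, Nat.card_zmod] at h
    exact (Nat.pow_right_injective le_rfl h).symm
  have hi4 : (i : ℕ) < 4 := hrank ▸ i.2
  have hfrob : φ a = a ^ (2 ^ (i : ℕ)) := by
    rw [← hi]
    show (FiniteField.frobeniusAlgHom (ZMod 2) K ^ (i : ℕ)) a = _
    rw [AlgHom.coe_pow, FiniteField.coe_frobeniusAlgHom, pow_iterate, ZMod.card]
  have h1 : a ^ (2 ^ (i : ℕ) + 1) = 1 := by
    rw [pow_succ, ← hfrob, show φ a = a⁻¹ from hφa, inv_mul_cancel₀ ha0]
  have h2 := Nat.le_of_dvd (Nat.succ_pos _) (ha ▸ orderOf_dvd_of_pow_eq_one h1)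
  have h3 : 2 ^ (i : ℕ) ≤ 2 ^ 3 := Nat.pow_le_pow_right (by norm_num) (by omega)
  norm_num at h3
  omega

/-- the four-dimensional case over `GF(2)` -/
theorem kc_two_dim_four (b : U →ₗ[ZMod 2] U →ₗ[ZMod 2] ZMod 2) (hb : ∀ v, (∀ w, b v w = 0) → v = 0)
    (X : Subgroup (U ≃ₗ[ZMod 2] U)) (hX : ∀ g ∈ X, ∀ v w, b (g v) (g w) = b v w)
    (hs : Group.IsSolvable X) (hss : SS X) (hd : finrank (ZMod 2) U = 4) : KC X 27 := by
  haveI := finite_gl (p := 2) (V := U)
  haveI := hs
  haveI : Nontrivial U := Module.nontrivial_of_finrank_pos (R := ZMod 2) (by omega)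
  have ih : ∀ m < finrank (ZMod 2) U, OB.{v} 2 m (tbl2 m) := fun m hm => ob_two m (by omega)
  by_cases hi : Irr X
  · obtain ⟨A, ⟨hAn, hA⟩, hmax⟩ := exists_maximal_normal_abelian (G := X)
    haveI := hAn
    rcases field_or_blocks hi A hA with h | ⟨ι, _, W, σ, r, h1, h2, h3, h4, h5, h6⟩
    · rcases field_cases X hs hi tbl2 ih (fun q a => glCard (2 * a) q) (fun q a hq _ _ _ => oi_glCard q (2 * a))
        A hA hmax h with ⟨s, hs1, hsn, hG, hdvd, hrk⟩ | ⟨q, a, m, s, s0, u, hq, hqp, ha, hn, -⟩
      · refine KC.of_card (hG.trans ?_)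
        have hle : Nat.card A ≤ 2 ^ s - 1 :=
          Nat.le_of_dvd (Nat.sub_pos_of_lt (Nat.one_lt_pow (by omega) one_lt_two)) hdvd
        rw [hd] at hsn
        obtain hlt | rfl : s < 4 ∨ s = 4 := lt_or_eq_of_le hsn
        · interval_cases s <;> omega
        · have h15 : Nat.card A ≠ 15 := by
            intro h15
            haveI := finite_moduleEnd (q := 2) (V := U)
            haveI : Finite (spanAlg X.subtype A) := Subtype.finite
            letI : Field (spanAlg X.subtype A) := h.toField
            let emb : A →* spanAlg X.subtype A :=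
              { toFun := fun x => ⟨toEndHom X.subtype (x : X), toEndHom_mem_spanAlg X.subtype x.2⟩
                map_one' := Subtype.ext (map_one _)
                map_mul' := fun x y => Subtype.ext (map_mul _ _ _) }
            have hemb : Function.Injective emb := fun x y hxy =>
              Subtype.ext (toEndHom_injective X.subtype_injective (congrArg Subtype.val hxy))
            haveI : IsCyclic A := isCyclic_of_subgroup_isDomain emb hemb
            obtain ⟨x, hx⟩ := IsCyclic.exists_ofOrder_eq_natCard (α := A)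
            refine pow_ne_of_form (K := spanAlg X.subtype A)
              (by rw [Module.natCard_eq_pow_finrank (K := ZMod 2), Nat.card_zmod, hrk]) b hb
              (spanAlg X.subtype A).val Subtype.val_injective (emb x)
              (by rw [orderOf_injective emb hemb, hx, h15]) fun v w => hX _ (x : X).2 v w
          have h15' : Nat.card A ∣ 15 := by simpa using hdvd
          have hall : ∀ d < 16, d ∣ 15 → d ≠ 15 → 4 * d ≤ 27 := by decide
          exact hall _ (by omega) h15' h15
      · exfalso
        have h5' : q ^ a ≤ 4 := Nat.le_of_dvd (by norm_num) (Dvd.intro m (hn.symm.trans hd))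
        have h6' : q ≤ 4 := (Nat.le_self_pow (by omega) q).trans h5'
        have hq3 : q = 3 := by interval_cases q <;> first | rfl | exact absurd rfl hqp | exact absurd hq (by norm_num)
        subst hq3
        have h7 : (3 : ℕ) ∣ 4 := ((dvd_pow_self 3 (by omega)).mul_right m).trans (dvd_of_eq (hn.symm.trans hd))
        norm_num at h7
    · obtain ⟨hNs, hWN, hinj⟩ := blocks_embed hi W σ h5 h6
      haveI : Group.IsSolvable (σ.ker.map X.subtype : Subgroup _) :=
        Group.isSolvable_of_isSolvable_injective (f := Subgroup.inclusion (Subgroup.map_subtype_le σ.ker))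
          (Subgroup.inclusion_injective _)
      rw [hd] at h3
      have hperm : KC (Equiv.Perm ι) (Fintype.card ι).factorial := by
        classical
        exact KC.of_card (le_of_eq (by rw [Nat.card_eq_fintype_card, Fintype.card_perm]))
      have hr2 : r ≤ 2 := by nlinarith
      interval_cases r
      · have hker : KC σ.ker 1 := KC.of_card (by
          refine (Nat.card_le_card_of_injective _ hinj).trans ?_
          rw [Nat.card_pi]
          refine le_of_le_of_eq (Finset.prod_le_pow_card _ _ 1 fun i _ => ?_) (one_pow _)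
          exact (OB.res ih inferInstance hNs (hWN i) (by rw [h4, hd]; norm_num)).trans_eq (by rw [h4]; rfl))
        refine (KC.of_hom σ hker hperm).mono ?_
        rw [show Fintype.card ι = 4 by omega]
        decide
      · haveI : ∀ i, Finite (resHom (hWN i)).range := fun i => by
          haveI := finite_gl (p := 2) (V := W i)
          infer_instance
        have hker : KC σ.ker (∏ _i : ι, 3) :=
          KC.of_injective _ hinj (KC.pi _ fun i => kc_two_dim_two _ (h4 i))
        refine (KC.of_hom σ hker hperm).mono ?_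
        rw [Finset.prod_const, Finset.card_univ, show Fintype.card ι = 2 by omega]
        decide
  · simp only [Irr, not_forall, not_or] at hi
    obtain ⟨W, hW, h0, h1⟩ := hi
    obtain ⟨W', hW', hc⟩ := hss W hW
    have hsum := Submodule.finrank_add_eq_of_isCompl hc
    obtain ⟨p1, p2⟩ := finrank_prop h0 h1
    haveI := finite_gl (p := 2) (V := W)
    haveI := finite_gl (p := 2) (V := W')
    refine KC.of_injective _ (reducible_embed hW hW' hc) ?_
    by_cases h22 : finrank (ZMod 2) W = 2
    · exact ((kc_two_dim_two _ h22).prod (kc_two_dim_two _ (by omega))).mono (by norm_num)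
    · refine (KC.prod (KC.of_card (OB.res ih hs hss hW p2))
        (KC.of_card (OB.res ih hs hss hW' (by omega)))).mono ?_
      rcases (show finrank (ZMod 2) W = 1 ∧ finrank (ZMod 2) W' = 3 ∨
          finrank (ZMod 2) W = 3 ∧ finrank (ZMod 2) W' = 1 by omega) with ⟨e, e'⟩ | ⟨e, e'⟩ <;>
        rw [e, e'] <;> decide

end two

/-- **the symplectic bound** -/
theorem kc_symplectic (b : V →ₗ[ZMod p] V →ₗ[ZMod p] ZMod p) (halt : ∀ v, b v v = 0)
    (hb : ∀ v, (∀ w, b v w = 0) → v = 0) {m : ℕ} (hm : 1 ≤ m) (hd : finrank (ZMod p) V = 2 * m)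
    (X : Subgroup (V ≃ₗ[ZMod p] V)) (hX : ∀ g ∈ X, ∀ v w, b (g v) (g w) = b v w)
    (hs : Group.IsSolvable X)
    (hiso : ∀ W : Submodule (ZMod p) V, Inv X W → (∀ v ∈ W, ∀ w ∈ W, b v w = 0) → W = ⊥) :
    KC X (3 ^ (p ^ m - 1)) := by
  haveI := finite_gl (p := p) (V := V)
  have hss := ss_of_form b X hX hiso
  rcases symp_arith (p := p) Fact.out hm with h | h
  swap
  · exact KC.of_card ((card_isometries_le b hb hd X hX).trans h)
  simp only [excPairs, List.mem_cons, Prod.mk.injEq, List.not_mem_nil, or_false] at h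
  rcases h with ⟨rfl, rfl⟩ | ⟨rfl, rfl⟩ | ⟨rfl, rfl⟩ | ⟨rfl, rfl⟩ | ⟨rfl, rfl⟩ | ⟨rfl, rfl⟩ | ⟨rfl, rfl⟩ | ⟨rfl, rfl⟩
  · exact (kc_two_dim_two X hd).mono (by norm_num)
  · exact (kc_two_dim_four b hb X hX hs hss hd).mono (by norm_num)
  · exact KC.of_card ((ob_two 6 (by norm_num) V hd X hs hss).trans (by decide +kernel))
  · exact KC.of_card ((ob_two 8 (by norm_num) V hd X hs hss).trans (by decide +kernel))
  · exact KC.of_card ((ob_two 10 (by norm_num) V hd X hs hss).trans (by decide +kernel))
  · exact (kc_dim_two kc_sl2_three X hd fun g hg => det_eq_one_of_form b halt hb hd g (hX g hg)).mono (by norm_num)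
  · exact KC.of_card ((ob_three 4 (by norm_num) V hd X hs hss).trans (by decide +kernel))
  · exact (kc_dim_two kc_sl2_five X hd fun g hg => det_eq_one_of_form b halt hb hd g (hX g hg)).mono (by norm_num)

end CfsgLib.Coprime.ClassMod
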