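import Cfsg.Agent.Lib.Coprime.ClassMod.Linear

/-!
# The order bounds in the small dimensions
-/

set_option autoImplicit false
set_option linter.style.haveILetI false
set_option maxRecDepth 100000
set_option synthInstance.maxSize 4096
set_option synthInstance.maxHeartbeats 400000

namespace CfsgLib.Coprime.ClassMod

open Module CfsgLib.Char CfsgLib.Char.Berger

universe v

theorem oi_glCard (q n : ℕ) [Fact q.Prime] : OI.{v} q n (glCard n q) := by
  intro V _ _ _ hn G _ _
  haveI := finite_gl (p := q) (V := V)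
  refine (Subgroup.card_le_card_group G).trans (le_of_eq ?_)
  rw [← card_addEquiv_of_zmodModule (p := q) (n := n) (W := V)
    (by rw [Module.natCard_eq_pow_finrank (K := ZMod q), Nat.card_zmod, hn])]
  exact Nat.card_congr
    { toFun := fun f => f.toAddEquiv
      invFun := fun α => { α with map_smul' := fun c x => ZMod.map_smul α.toAddMonoidHom c x }
      left_inv := fun f => by ext; rfl
      right_inv := fun α => by ext; rfl }

/-- the bounds over the field with two elements -/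
def tbl2 (n : ℕ) : ℕ := [1, 1, 6, 21, 72, 155, 1296, 5040, 40320, 362880, 3628800].getD n 0

/-- the bounds over the field with three elements -/
def tbl3 (n : ℕ) : ℕ := [1, 2, 48, 96, 4608].getD n 0

theorem small_prime {q a m N : ℕ} (hq : q.Prime) (ha : 1 ≤ a) (hm : 1 ≤ m) (h : q ^ a * m ≤ N) (hN : N ≤ 10) :
    q ∈ [2, 3, 5, 7] ∧ a < 4 ∧ m ≤ N := by
  have h1 : q ≤ N := ((Nat.le_self_pow (by omega) q).trans (Nat.le_mul_of_pos_right _ hm)).trans h
  have h2 : m ≤ N := (Nat.le_mul_of_pos_left _ (Nat.pow_pos hq.pos)).trans h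
  have h3 : a < 4 := by
    by_contra hlt
    have h4 : 2 ^ 4 ≤ q ^ a := (Nat.pow_le_pow_left hq.two_le 4).trans (Nat.pow_le_pow_right hq.pos (by omega))
    have := (Nat.le_mul_of_pos_right (q ^ a) hm).trans h
    omega
  refine ⟨?_, h3, h2⟩
  have h10 : q ≤ 10 := h1.trans hN
  interval_cases q <;> first | decide | exact absurd hq (by norm_num)

theorem ext2 : ∀ q ∈ [2, 3, 5, 7], ∀ a < 4, ∀ m ≤ 10, ∀ s0 ≤ 10, ∀ u ≤ 10, q ≠ 2 → 1 ≤ a → q ^ a * m ≤ 10 →
    1 ≤ s0 → 1 ≤ u → s0 * u ≤ m → (2 ^ s0 - 1) % q = 0 →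
    glCard (2 * a) q * u * q ^ (2 * a) * (if s0 * u = m then 2 ^ m - 1 else tbl2 m) ≤ tbl2 (q ^ a * m) := by
  decide +kernel

theorem ob_two : ∀ n ≤ 10, OB.{v} 2 n (tbl2 n) := by
  refine ob_of_table 10 tbl2 (fun q a => glCard (2 * a) q) (fun q a hq _ _ _ => oi_glCard q (2 * a))
    (by decide) (by decide +kernel) (by decide +kernel) (by decide +kernel) ?_
  intro q a m s0 u hq hqp ha hN hs0 hu hsu hd
  have hm : 1 ≤ m := le_trans (Nat.mul_pos hs0 hu) hsu
  obtain ⟨h1, h2, h3⟩ := small_prime hq ha hm hN le_rfl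
  have h4 : s0 ≤ 10 := ((Nat.le_mul_of_pos_right _ hu).trans hsu).trans h3
  have h5 : u ≤ 10 := ((Nat.le_mul_of_pos_left _ hs0).trans hsu).trans h3
  exact ext2 q h1 a h2 m h3 s0 h4 u h5 hqp ha hN hs0 hu hsu (Nat.mod_eq_zero_of_dvd hd)

/-- the bounds for the automorphism groups of the sections over the field with three elements -/
def sec3 (a : ℕ) : ℕ := if a = 1 then 6 else 72

theorem ext3 : ∀ a < 4, ∀ m ≤ 4, ∀ s0 ≤ 4, ∀ u ≤ 4, 1 ≤ a → 2 ^ a * m ≤ 4 →
    1 ≤ s0 → 1 ≤ u → s0 * u ≤ m →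
    sec3 a * u * 2 ^ (2 * a) * (if s0 * u = m then 3 ^ m - 1 else tbl3 m) ≤ tbl3 (2 ^ a * m) := by
  decide +kernel

theorem ob_three : ∀ n ≤ 4, OB.{v} 3 n (tbl3 n) := by
  refine ob_of_table 4 tbl3 (fun _ a => sec3 a) (fun q a hq hqp ha hle => ?_)
    (by decide) (by decide +kernel) (by decide +kernel) (by decide +kernel) ?_
  · obtain ⟨h1, h2, -⟩ := small_prime (m := 1) hq.out ha le_rfl (by simpa using hle) (by norm_num : (4 : ℕ) ≤ 10)
    fin_cases h1
    · have h : a = 1 ∨ a = 2 := by interval_cases a <;> simp_all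
      rcases h with rfl | rfl
      · exact (ob_two 2 (by norm_num)).oi
      · exact (ob_two 4 (by norm_num)).oi
    · exact absurd rfl hqp
    all_goals
      exfalso
      interval_cases a <;> simp_all
  · intro q a m s0 u hq hqp ha hN hs0 hu hsu _
    have hm : 1 ≤ m := le_trans (Nat.mul_pos hs0 hu) hsu
    obtain ⟨h1, h2, h3⟩ := small_prime hq ha hm hN (by norm_num : (4 : ℕ) ≤ 10)
    have hq4 : q ≤ 4 := ((Nat.le_self_pow (by omega) q).trans (Nat.le_mul_of_pos_right _ hm)).trans hN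
    have hq2 : q = 2 := by fin_cases h1 <;> simp_all
    subst hq2
    have h4 : s0 ≤ 4 := ((Nat.le_mul_of_pos_right _ hu).trans hsu).trans h3
    have h5 : u ≤ 4 := ((Nat.le_mul_of_pos_left _ hs0).trans hsu).trans h3
    exact ext3 a h2 m h3 s0 h4 u h5 ha hN hs0 hu hsu

end CfsgLib.Coprime.ClassMod
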